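/-
Identities between words in root elements modulo the characteristic, from a kernel computation on tables.
-/
import Cfsg.Agent.Lib.Tw.Comm
import Cfsg.Agent.Lib.ChevAut.Exc2

set_option autoImplicit false

namespace Cfsg.Agent.Lib.Chev

open Cfsg.Lie

/-- The monomial `c t^a u^b` as a polynomial. -/
def mP (c : ℤ) (a b : ℕ) : Poly := [⟨c, a, b⟩]

lemma mP_val {F : Type*} [Field F] (c : ℤ) (a b : ℕ) (t u : F) : Poly.val (mP c a b) t u = (c : F) * t ^ a * u ^ b := by
  simp [mP, Poly.val, Mono.val]

namespace Tbl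

/-- The check of an identity between words modulo `p`. -/
noncomputable def chkWEq (T : Tbl) (p : ℕ) (w w' : List (ℕ × Poly)) : Bool :=
  and (allF (fun e => Nat.blt e.1 T.n) w) <|
  and (allF (fun e => Nat.blt e.1 T.n) w') <|
  allBelow (Nat.add T.n T.l) fun k => eqSVp p (T.wordCols w k) (T.wordCols w' k)

/-- The columns of a word, collecting terms at every step. -/
noncomputable def wordColsN (T : Tbl) (w : List (ℕ × Poly)) (k : ℕ) : SV :=
  foldrF (fun e v => normalize (applyV (T.act e.1 e.2) v)) (idCol k) w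

/-- The check of an identity between words modulo `p`, collecting terms at every step. -/
noncomputable def chkWEqN (T : Tbl) (p : ℕ) (w w' : List (ℕ × Poly)) : Bool :=
  and (allF (fun e => Nat.blt e.1 T.n) w) <|
  and (allF (fun e => Nat.blt e.1 T.n) w') <|
  allBelow (Nat.add T.n T.l) fun k => eqSVp p (T.wordColsN w k) (T.wordColsN w' k)

end Tbl

section

variable {F : Type*} [Field F] {D : ChevalleyDatum} {T : Tbl}

namespace Tbl.Good2

variable (hG : T.Good2 D)
include hG

/-- Identities between words modulo the characteristic. -/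
theorem wEq {p : ℕ} [CharP F p] {w w' : List (ℕ × Poly)} (h : T.chkWEq p w w' = true) (t u : F) :
    hG.gW (w.map fun e => (e.1, e.2.val t u)) = hG.gW (w'.map fun e => (e.1, e.2.val t u)) := by
  have hT := hG.correct
  have hS := hG.sane
  unfold Tbl.chkWEq at h
  simp only [Bool.and_eq_true] at h
  obtain ⟨h1, h2, h3⟩ := h
  have hw : ∀ e ∈ w, e.1 < D.nroots := fun e he => by
    rw [← hT.n_eq]
    exact Nat.le_of_ble_eq_true (allF_spec h1 e he)
  have hw' : ∀ e ∈ w', e.1 < D.nroots := fun e he => by
    rw [← hT.n_eq]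
    exact Nat.le_of_ble_eq_true (allF_spec h2 e he)
  have r1 := rep_word (F := F) hT hS w hw t u
  have r2 := rep_word (F := F) hT hS w' hw' t u
  apply Units.ext
  rw [hG.gW_coe, hG.gW_coe]
  refine Rep.ext r1 r2 fun k hk => ?_
  have h4 := allBelow_spec h3 k (by
    show k < T.n + T.l
    rw [hT.n_eq, hT.l_eq]
    exact hk)
  exact eqSVp_spec D h4 t u

/-- The representation of a word, collecting terms at every step. -/
theorem rep_wordN (w : List (ℕ × Poly)) (hw : ∀ e ∈ w, e.1 < D.nroots) (t u : F) :
    Rep D (D.wordMat F (w.map fun e => (e.1, e.2.val t u))) (T.wordColsN w) t u := by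
  have hT := hG.correct
  have hS := hG.sane
  induction w with
  | nil =>
    rw [List.map_nil, wordMat_nil]
    exact Rep.one t u
  | cons e w ih =>
    rw [List.map_cons, wordMat_cons]
    have h1 := (rep_act hT hS (hw e (by simp)) e.2 t u).mul (ih fun e' he' => hw e' (List.mem_cons_of_mem _ he'))
    intro k
    have h2 := h1 k
    rw [← toVec_normalize] at h2
    exact h2

/-- Identities between words modulo the characteristic, collecting terms at every step. -/
theorem wEqN {p : ℕ} [CharP F p] {w w' : List (ℕ × Poly)} (h : T.chkWEqN p w w' = true) (t u : F) :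
    hG.gW (w.map fun e => (e.1, e.2.val t u)) = hG.gW (w'.map fun e => (e.1, e.2.val t u)) := by
  have hT := hG.correct
  unfold Tbl.chkWEqN at h
  simp only [Bool.and_eq_true] at h
  obtain ⟨h1, h2, h3⟩ := h
  have hw : ∀ e ∈ w, e.1 < D.nroots := fun e he => by
    rw [← hT.n_eq]
    exact Nat.le_of_ble_eq_true (allF_spec h1 e he)
  have hw' : ∀ e ∈ w', e.1 < D.nroots := fun e he => by
    rw [← hT.n_eq]
    exact Nat.le_of_ble_eq_true (allF_spec h2 e he)
  have r1 := hG.rep_wordN (F := F) w hw t u
  have r2 := hG.rep_wordN (F := F) w' hw' t u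
  apply Units.ext
  rw [hG.gW_coe, hG.gW_coe]
  refine Rep.ext r1 r2 fun k hk => ?_
  have h4 := allBelow_spec h3 k (by
    show k < T.n + T.l
    rw [hT.n_eq, hT.l_eq]
    exact hk)
  exact eqSVp_spec D h4 t u

end Tbl.Good2

end

end Cfsg.Agent.Lib.Chev
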