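/-
The characters of the diagonal subgroup on the root elements.
-/
import Cfsg.Agent.Lib.Tw.Gen
import Cfsg.Agent.Lib.Tw.Comm

set_option autoImplicit false

namespace Cfsg.Agent.Lib.Chev

open Cfsg.Lie

section

variable {F : Type*} [Field F] {D : ChevalleyDatum} {T : Tbl}

namespace Tbl.Good2

variable (hG : T.Good2 D)
include hG

/-- The scalar by which an element of `H` acts on a root element. -/
noncomputable def chi {r : ℕ} (hr : r < D.nroots) : ↥(D.diagonalSubgroup F) →* Fˣ where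
  toFun z := Units.mk0 (Classical.choose (hG.H_conj_x z.2 hr)) (Classical.choose_spec (hG.H_conj_x z.2 hr)).1
  map_one' := by
    apply Units.ext
    have key : ∀ c : F, ((1 : GL D.Idx F) * hG.xU hr 1 * (1 : GL D.Idx F)⁻¹ = hG.xU hr (c * 1)) → c = 1 := by
      intro c hc
      rw [one_mul, inv_one, mul_one, mul_one] at hc
      exact (hG.xU_inj hr hc).symm
    exact key _ ((Classical.choose_spec (hG.H_conj_x (Subgroup.one_mem (D.diagonalSubgroup F)) hr)).2 1)
  map_mul' := fun a b => by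
    apply Units.ext
    have hab := (Classical.choose_spec (hG.H_conj_x (a * b).2 hr)).2 1
    have ha := (Classical.choose_spec (hG.H_conj_x a.2 hr)).2
    have hb := (Classical.choose_spec (hG.H_conj_x b.2 hr)).2 1
    have e : ((a * b : ↥(D.diagonalSubgroup F)) : GL D.Idx F) * hG.xU hr 1 * ((a * b : ↥(D.diagonalSubgroup F)) : GL D.Idx F)⁻¹ =
        (a : GL D.Idx F) * ((b : GL D.Idx F) * hG.xU hr 1 * (b : GL D.Idx F)⁻¹) * (a : GL D.Idx F)⁻¹ := by
      show ((a : GL D.Idx F) * (b : GL D.Idx F)) * hG.xU hr 1 * ((a : GL D.Idx F) * (b : GL D.Idx F))⁻¹ = _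
      group
    rw [e, hb, ha] at hab
    have h2 := hG.xU_inj hr hab
    simp only [mul_one] at h2
    simpa using h2.symm

lemma chi_spec {r : ℕ} (hr : r < D.nroots) (z : ↥(D.diagonalSubgroup F)) (t : F) :
    (z : GL D.Idx F) * hG.xU hr t * (z : GL D.Idx F)⁻¹ = hG.xU hr ((hG.chi hr z : F) * t) :=
  (Classical.choose_spec (hG.H_conj_x z.2 hr)).2 t

lemma chi_eq {r : ℕ} (hr : r < D.nroots) (z : ↥(D.diagonalSubgroup F)) {c : F}
    (h : (z : GL D.Idx F) * hG.xU hr 1 * (z : GL D.Idx F)⁻¹ = hG.xU hr c) : (hG.chi hr z : F) = c := by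
  have h1 := hG.chi_spec hr z 1
  rw [h, mul_one] at h1
  exact (hG.xU_inj hr h1).symm

lemma chi_xN {r : ℕ} (hr : r < D.nroots) (z : ↥(D.diagonalSubgroup F)) (t : F) :
    (z : GL D.Idx F) * hG.xN r t * (z : GL D.Idx F)⁻¹ = hG.xN r ((hG.chi hr z : F) * t) := by
  rw [hG.xN_of_lt hr, hG.xN_of_lt hr, hG.chi_spec]

lemma chi_congr {r r' : ℕ} (hr : r < D.nroots) (hr' : r' < D.nroots) (e : r = r') (z : ↥(D.diagonalSubgroup F)) :
    hG.chi hr z = hG.chi hr' z := by
  subst e
  rfl

/-- An element of `H` with trivial values on the simple roots is trivial. -/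
lemma eq_one_of_chi (z : ↥(D.diagonalSubgroup F)) (h : ∀ i (hi : i < D.rank), hG.chi (hG.simple_lt hi) z = 1) : z = 1 := by
  apply Subtype.ext
  refine hG.eq_one_of_comm_simple z.2 fun i hi t => ?_
  rw [hG.chi_spec, h i hi]
  simp

/-- The values of the semisimple root elements. -/
lemma chi_hU {r s : ℕ} (hr : r < D.nroots) (hs : s < D.nroots) {c : F} (hc : c ≠ 0) :
    (hG.chi hs ⟨hG.hU hr hc, hG.hU_mem hr hc⟩ : F) = c ^ D.pairing r s := by
  refine hG.chi_eq hs _ ?_
  rw [hG.hU_conj_x hr hs hc, mul_one]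

end Tbl.Good2

namespace Tw

variable {hG : T.Good2 D} (S : Tw hG F)

/-- The relation between the values of a fixed element of `H`. -/
lemma chi_tw {z : ↥(D.diagonalSubgroup F)} (hz : (z : GL D.Idx F) ∈ S.fix) {r : ℕ} (hr : r < D.nroots) (t : F) :
    (hG.chi (S.τ_lt r hr) z : F) * S.f r t = S.f r ((hG.chi hr z : F) * t) := by
  have h1 := hG.chi_spec hr z t
  have hzg := hz.1
  have hx := xU_mem_group hG hr t
  have h3 := congrArg S.sig h1
  rw [S.sig_mul (Subgroup.mul_mem _ hzg hx) (Subgroup.inv_mem _ hzg), S.sig_mul hzg hx, S.sig_inv hzg, hz.2, S.sig_xU, S.sig_xU,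
    hG.chi_spec] at h3
  exact hG.xU_inj _ h3

end Tw

end

end Cfsg.Agent.Lib.Chev
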