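/-
The characters of the diagonal subgroup: relations between roots, prescribed values, conjugation by representatives.
-/
import Cfsg.Agent.Lib.Tw.HChar
import Cfsg.Agent.Lib.Tw.HFix
import Cfsg.Agent.Lib.Chev.HCard

set_option autoImplicit false

namespace Cfsg.Agent.Lib.Chev

open Cfsg.Lie

section

variable {F : Type*} [Field F] {D : ChevalleyDatum} {T : Tbl}

namespace Tbl.Good2

variable (hG : T.Good2 D)
include hG

/-- The value at a tuple. -/
lemma chi_of_mat (c : Fin D.rank → Fˣ) (z : ↥(D.diagonalSubgroup F))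
    (e : ((z : GL D.Idx F) : Matrix D.Idx D.Idx F) = diagM D F (fun s => ((∏ i : Fin D.rank, c i ^ T.cart i.val s : Fˣ) : F)))
    {s : ℕ} (hs : s < D.nroots) : (hG.chi hs z : F) = ((∏ i : Fin D.rank, c i ^ T.cart i.val s : Fˣ) : F) := by
  have hz : ((z : GL D.Idx F) : Matrix D.Idx D.Idx F) = diagM D F (fun s => ((List.range D.rank).map fun i => StOrb.cN (D := D) (F := F) c i ^ D.cartan i s).prod) := by
    rw [StOrb.diagM_cN hG c, e]
  have h1 := hG.H_conj_of_mat _ (StOrb.cN_ne c) hz hs (1 : F)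
  rw [mul_one] at h1
  rw [hG.chi_eq hs z h1, StOrb.cN_prod hG c hs]

/-- Every element of `H` comes from a tuple. -/
lemma chi_tuple (z : ↥(D.diagonalSubgroup F)) : ∃ c : Fin D.rank → Fˣ, ∀ (s : ℕ) (hs : s < D.nroots),
    (hG.chi hs z : F) = ((∏ i : Fin D.rank, c i ^ T.cart i.val s : Fˣ) : F) := by
  obtain ⟨c, hc⟩ := (hG.H_range (F := F)).subset ⟨z, rfl⟩
  exact ⟨c, fun s hs => hG.chi_of_mat c z hc.symm hs⟩

/-- Every tuple comes from an element of `H`. -/
lemma exists_of_tuple (c : Fin D.rank → Fˣ) : ∃ z : ↥(D.diagonalSubgroup F), ∀ (s : ℕ) (hs : s < D.nroots),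
    (hG.chi hs z : F) = ((∏ i : Fin D.rank, c i ^ T.cart i.val s : Fˣ) : F) := by
  obtain ⟨z, hz⟩ : (fun c : Fin D.rank → Fˣ => diagM D F (fun s => ((∏ i : Fin D.rank, c i ^ T.cart i.val s : Fˣ) : F))) c ∈
      Set.range (fun g : D.diagonalSubgroup F => (((g : GL D.Idx F)) : Matrix D.Idx D.Idx F)) := by
    rw [hG.H_range]
    exact ⟨c, rfl⟩
  exact ⟨z, fun s hs => hG.chi_of_mat c z hz hs⟩

/-- A linear relation between roots gives a relation between the values. -/
lemma chi_lin (z : ↥(D.diagonalSubgroup F)) {r s t : ℕ} (hr : r < D.nroots) (hs : s < D.nroots) (ht : t < D.nroots) (a b : ℤ)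
    (h : ∀ i, i < D.rank → T.cart i t = a * T.cart i r + b * T.cart i s) :
    hG.chi ht z = hG.chi hr z ^ a * hG.chi hs z ^ b := by
  obtain ⟨c, hc⟩ := hG.chi_tuple z
  apply Units.ext
  rw [hc t ht, Units.val_mul, Units.val_zpow_eq_zpow_val, Units.val_zpow_eq_zpow_val, hc r hr, hc s hs,
    ← Units.val_zpow_eq_zpow_val, ← Units.val_zpow_eq_zpow_val, ← Units.val_mul]
  congr 1
  rw [← Finset.prod_zpow, ← Finset.prod_zpow, ← Finset.prod_mul_distrib]
  apply Finset.prod_congr rfl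
  intro i _
  rw [h i i.2, zpow_add, mul_comm a, mul_comm b, zpow_mul, zpow_mul]

/-- The value on the negative of a root. -/
lemma chi_neg (z : ↥(D.diagonalSubgroup F)) {r : ℕ} (hr : r < D.nroots) (hn : D.neg r < D.nroots) :
    hG.chi hn z = (hG.chi hr z)⁻¹ := by
  obtain ⟨c, hc⟩ := hG.chi_tuple z
  apply Units.ext
  rw [hc _ hn, Units.val_inv_eq_inv_val, hc r hr, ← Units.val_inv_eq_inv_val]
  congr 1
  rw [← Finset.prod_inv_distrib]
  apply Finset.prod_congr rfl
  intro i _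
  have e1 := hG.correct.cart_eq i.val r i.2 hr
  have e2 := hG.correct.cart_eq i.val (D.neg r) i.2 hn
  rw [e1, e2, (hG.addF_cart i.2).neg r hr, zpow_neg]

/-- Prescribed values on the simple roots when the Cartan matrix is invertible. -/
lemma exists_chi_simple {B : Fin D.rank → Fin D.rank → ℤ}
    (hB : ∀ i j : Fin D.rank, ∑ k : Fin D.rank, cartA T D.rank i k * B k j = if i = j then 1 else 0) (v : Fin D.rank → Fˣ) :
    ∃ z : ↥(D.diagonalSubgroup F), ∀ j : Fin D.rank, hG.chi (hG.simple_lt j.2) z = v j := by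
  obtain ⟨z, hz⟩ := hG.exists_of_tuple (actZ B v)
  refine ⟨z, fun j => ?_⟩
  apply Units.ext
  rw [hz]
  have h1 := actZ_comp (A := cartA T D.rank) (B := B) (E := fun i j => if i = j then 1 else 0) hB v
  have h2 := actZ_delta (M := Fˣ) (E := fun i j : Fin D.rank => if i = j then (1 : ℤ) else 0) (fun _ _ => rfl) v
  have h3 := congrFun (h1.trans h2) j
  congr 1
  rw [← h3]
  simp only [actZ, cartA, hG.correct.simple_eq _ j.2]

/-- The value on a root of a conjugate under a product of representatives. -/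
lemma chi_conj_nProd {l : List ℕ} (hl : ∀ i ∈ l, i < D.rank) (z : ↥(D.diagonalSubgroup F)) {s : ℕ} (hs : s < D.nroots)
    (hz : hG.nProd l * (z : GL D.Idx F) * (hG.nProd l)⁻¹ ∈ D.diagonalSubgroup F) :
    hG.chi (hG.wperm_lt hl hs) ⟨_, hz⟩ = hG.chi hs z := by
  obtain ⟨c, hc, e⟩ := hG.nProd_conj_x (F := F) hl hs
  apply Units.ext
  refine hG.chi_eq _ _ ?_
  have h0 : c * 1 ≠ 0 := by
    rcases hc with rfl | rfl <;> simp
  have h1 : c ≠ 0 := by simpa using h0
  have h2 := e (c⁻¹ * 1)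
  rw [← mul_assoc, mul_inv_cancel₀ h1, one_mul] at h2
  show hG.nProd l * (z : GL D.Idx F) * (hG.nProd l)⁻¹ * hG.xU (hG.wperm_lt hl hs) 1 * (hG.nProd l * (z : GL D.Idx F) * (hG.nProd l)⁻¹)⁻¹ = _
  rw [mul_one] at h2
  rw [← h2]
  have e2 : hG.nProd l * (z : GL D.Idx F) * (hG.nProd l)⁻¹ * (hG.nProd l * hG.xU hs (c⁻¹) * (hG.nProd l)⁻¹) * (hG.nProd l * (z : GL D.Idx F) * (hG.nProd l)⁻¹)⁻¹ =
      hG.nProd l * ((z : GL D.Idx F) * hG.xU hs (c⁻¹) * (z : GL D.Idx F)⁻¹) * (hG.nProd l)⁻¹ := by group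
  rw [e2, hG.chi_spec, e]
  congr 1
  field_simp

end Tbl.Good2

end

end Cfsg.Agent.Lib.Chev
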