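/-
Twisted groups from an exceptional graph automorphism and a field automorphism.
-/
import Cfsg.Agent.Lib.Tw.WEq
import Cfsg.Agent.Lib.ChevAut.ExcT
import Cfsg.Agent.Lib.Tw.Data

set_option autoImplicit false

namespace Cfsg.Agent.Lib.Chev

open Cfsg.Lie

section

variable {F : Type*} [Field F] {D : ChevalleyDatum} {T : Tbl}

/-- The automorphism from an exceptional graph automorphism and a field automorphism. -/
theorem exists_exc_aut (hG : T.Good2 D) (E : ExcD D T) [hp : Fact E.p.Prime] [CharP F E.p] (hGen : E.Gen)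
    (hperf : ∀ x : F, ∃ y : F, y ^ E.p = x) (φ : F ≃+* F) :
    ∃ σ : ↥(D.group F) ≃* ↥(D.group F), ∀ r, r < D.nroots → ∀ t,
      σ (hG.xT r t) = hG.xT (E.tau r) (φ (t ^ E.exp r)) := by
  obtain ⟨α, hα⟩ := E.exists_aut hG hGen hperf
  obtain ⟨β, hβ⟩ := exists_fieldAut D φ
  refine ⟨α.trans β, fun r hr t => ?_⟩
  apply Subtype.ext
  apply Units.ext
  have h1 := hα r hr t
  have h2 := hβ (α (hG.xT r t)) (E.tau r) (t ^ E.exp r) (E.tau_lt r hr) (by
    rw [h1]
    exact hG.xT_coe _ _)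
  show (((β (α (hG.xT r t)) : ↥(D.group F)) : GL D.Idx F) : Matrix D.Idx D.Idx F) = _
  rw [h2, hG.xT_coe]

/-- The structure `Tw` from an exceptional graph automorphism and a field automorphism. -/
noncomputable def Tw.ofExc (hG : T.Good2 D) (E : ExcD D T) [hp : Fact E.p.Prime] [CharP F E.p] (hGen : E.Gen)
    (hperf : ∀ x : F, ∃ y : F, y ^ E.p = x) (φ : F ≃+* F)
    (hpos : ∀ r, r < D.nroots → (D.nroots / 2 ≤ r ↔ D.nroots / 2 ≤ E.tau r))
    (hneg : ∀ r, r < D.nroots → E.tau (D.neg r) = D.neg (E.tau r))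
    (hexp : ∀ r, r < D.nroots → E.exp (D.neg r) = E.exp r) : Tw hG F where
  σ := (exists_exc_aut hG E hGen hperf φ).choose
  τ := E.tau
  f := fun r t => φ (t ^ E.exp r)
  τ_lt := E.tau_lt
  τ_pos := hpos
  τ_neg := hneg
  τ_inj := fun r s hr hs e => by
    have := congrArg E.tau e
    rwa [E.tau_tau r hr, E.tau_tau s hs] at this
  f_zero := fun r t _ h => by
    have h1 := (map_eq_zero φ).1 h
    by_contra hne
    exact pow_ne_zero _ hne h1
  f_n := fun r t hr _ => by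
    rw [hexp r hr, ← map_inv₀, ← map_neg]
    congr 1
    have h1 : (-t⁻¹) ^ E.exp r = -(t ^ E.exp r)⁻¹ := by
      unfold ExcD.exp
      split_ifs
      · rw [neg_pow, neg_one_pow_char F E.p, inv_pow]
        ring
      · simp
    exact h1
  map_x := (exists_exc_aut hG E hGen hperf φ).choose_spec

/-- Orbit data from statements on the tables. -/
def TwOrb.ofT2 (hG : T.Good2 D) {τ : ℕ → ℕ} (m : ℕ) (inJ : ℕ → ℕ) (wJ : ℕ → List ℕ)
    (h1 : ∀ j, j < m → ∀ i ∈ wJ j, i < D.rank) (h2 : ∀ i, i < D.rank → inJ i < m)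
    (h3 : ∀ j, j < m → ∃ i, i < D.rank ∧ inJ i = j)
    (h4 : ∀ i i', i < D.rank → i' < D.rank → inJ i = inJ i' → ∃ k, τ^[k] (D.simple i) = D.simple i')
    (h5 : ∀ j, j < m → ∀ r, r < D.nroots → wperm T (wJ j) (wperm T (wJ j) r) = r)
    (h6 : ∀ j, j < m → ∀ r, r < D.nroots → D.nroots / 2 ≤ r →
      (wperm T (wJ j) r < D.nroots / 2 ↔ ∀ i, i < D.rank → inJ i ≠ j → T.cor r i = 0)) : TwOrb T D τ where
  m := m
  inJ := inJ
  wJ := wJ
  wJ_lt := h1
  inJ_lt := h2
  inJ_ne := h3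
  orbit := h4
  invol := h5
  inv := fun j hj r hr hp => by
    rw [h6 j hj r hr hp]
    constructor
    · intro h
      refine ⟨hr, fun i hi hiJ => ?_⟩
      rw [← hG.correct.cor_eq r i hr hi]
      exact h i hi hiJ
    · rintro ⟨_, h⟩ i hi hiJ
      rw [hG.correct.cor_eq r i hr hi]
      exact h i hi hiJ

end

end Cfsg.Agent.Lib.Chev
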