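/-
The relations of the root elements of a positive system of type `G₂` in characteristic three, as abstract relations in
a group: the normal form of a product.
-/
import Mathlib

set_option autoImplicit false

namespace Cfsg.Agent.Lib.Chev

/-- Four commuting families of elements. -/
lemma prod4_mul {G : Type*} [Group G] {a b c d a' b' c' d' : G} (h1 : Commute b a') (h2 : Commute c a') (h3 : Commute d a')
    (h4 : Commute c b') (h5 : Commute d b') (h6 : Commute d c') :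
    (a * b * c * d) * (a' * b' * c' * d') = (a * a') * (b * b') * (c * c') * (d * d') := by
  calc (a * b * c * d) * (a' * b' * c' * d') = a * b * c * (d * a') * b' * c' * d' := by group
    _ = a * b * c * a' * d * b' * c' * d' := by rw [h3.eq]; group
    _ = a * b * (c * a') * d * b' * c' * d' := by group
    _ = a * b * a' * c * d * b' * c' * d' := by rw [h2.eq]; group
    _ = a * (b * a') * c * d * b' * c' * d' := by group
    _ = a * a' * b * c * d * b' * c' * d' := by rw [h1.eq]; group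
    _ = a * a' * b * c * (d * b') * c' * d' := by group
    _ = a * a' * b * c * b' * d * c' * d' := by rw [h5.eq]; group
    _ = a * a' * b * (c * b') * d * c' * d' := by group
    _ = a * a' * b * b' * c * d * c' * d' := by rw [h4.eq]; group
    _ = a * a' * b * b' * c * (d * c') * d' := by group
    _ = a * a' * b * b' * c * c' * d * d' := by rw [h6.eq]; group
    _ = _ := by group

/-- The relations for a positive system of type `G₂` in characteristic three. -/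
structure G2Rel {G K : Type*} [Group G] [Field K] (xa xb xc xd xe xf : K → G) : Prop where
  addA : ∀ s t, xa s * xa t = xa (s + t)
  addB : ∀ s t, xb s * xb t = xb (s + t)
  addC : ∀ s t, xc s * xc t = xc (s + t)
  addD : ∀ s t, xd s * xd t = xd (s + t)
  addE : ∀ s t, xe s * xe t = xe (s + t)
  addF : ∀ s t, xf s * xf t = xf (s + t)
  ba : ∀ t u, xb u * xa t = xa t * xb u * xc (t * u) * xd (t ^ 2 * u) * xe (-(t ^ 3 * u)) * xf (-(t ^ 3 * u ^ 2))
  ca : ∀ t u, xc u * xa t = xa t * xc u * xd (-(t * u))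
  eb : ∀ t u, xe u * xb t = xb t * xe u * xf (-(t * u))
  ad : ∀ s t, Commute (xa s) (xd t)
  ae : ∀ s t, Commute (xa s) (xe t)
  af : ∀ s t, Commute (xa s) (xf t)
  bc : ∀ s t, Commute (xb s) (xc t)
  bd : ∀ s t, Commute (xb s) (xd t)
  bf : ∀ s t, Commute (xb s) (xf t)
  cd : ∀ s t, Commute (xc s) (xd t)
  ce : ∀ s t, Commute (xc s) (xe t)
  cf : ∀ s t, Commute (xc s) (xf t)
  de : ∀ s t, Commute (xd s) (xe t)
  df : ∀ s t, Commute (xd s) (xf t)
  ef : ∀ s t, Commute (xe s) (xf t)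

namespace G2Rel

variable {G K : Type*} [Group G] [Field K] {xa xb xc xd xe xf : K → G} (R : G2Rel xa xb xc xd xe xf)
include R

omit R in
lemma zero_of_add {x : K → G} (h : ∀ s t, x s * x t = x (s + t)) : x 0 = 1 := by
  have := h 0 0
  rw [add_zero] at this
  exact mul_eq_left.1 this

omit R in
/-- The product of the last four families. -/
def zz (xc xd xe xf : K → G) (γ δ ε ζ : K) : G := xc γ * xd δ * xe ε * xf ζ

omit R in
/-- The normal form. -/
def gg (xa xb xc xd xe xf : K → G) (α β γ δ ε ζ : K) : G := xa α * xb β * zz xc xd xe xf γ δ ε ζ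

lemma zz_mul (γ δ ε ζ γ' δ' ε' ζ' : K) :
    zz xc xd xe xf γ δ ε ζ * zz xc xd xe xf γ' δ' ε' ζ' = zz xc xd xe xf (γ + γ') (δ + δ') (ε + ε') (ζ + ζ') := by
  unfold zz
  rw [prod4_mul (R.cd γ' δ).symm (R.ce γ' ε).symm (R.cf γ' ζ).symm (R.de δ' ε).symm (R.df δ' ζ).symm (R.ef ε' ζ).symm,
    R.addC, R.addD, R.addE, R.addF]

lemma zz_a (γ δ ε ζ t : K) :
    zz xc xd xe xf γ δ ε ζ * xa t = xa t * zz xc xd xe xf γ (δ - t * γ) ε ζ := by
  unfold zz
  have h1 := R.ca t γ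
  have e : δ - t * γ = -(t * γ) + δ := by ring
  rw [e, ← R.addD]
  calc xc γ * xd δ * xe ε * xf ζ * xa t = xc γ * xd δ * xe ε * (xf ζ * xa t) := by group
    _ = xc γ * xd δ * (xe ε * xa t) * xf ζ := by rw [(R.af t ζ).symm.eq]; group
    _ = xc γ * (xd δ * xa t) * xe ε * xf ζ := by rw [(R.ae t ε).symm.eq]; group
    _ = (xc γ * xa t) * xd δ * xe ε * xf ζ := by rw [(R.ad t δ).symm.eq]; group
    _ = _ := by rw [h1]; group

lemma zz_b (γ δ ε ζ t : K) :
    zz xc xd xe xf γ δ ε ζ * xb t = xb t * zz xc xd xe xf γ δ ε (ζ - t * ε) := by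
  unfold zz
  have h1 := R.eb t ε
  have e : ζ - t * ε = -(t * ε) + ζ := by ring
  rw [e, ← R.addF]
  calc xc γ * xd δ * xe ε * xf ζ * xb t = xc γ * xd δ * xe ε * (xf ζ * xb t) := by group
    _ = xc γ * xd δ * (xe ε * xb t) * xf ζ := by rw [(R.bf t ζ).symm.eq]; group
    _ = xc γ * xd δ * xb t * xe ε * xf (-(t * ε)) * xf ζ := by rw [h1]; group
    _ = xc γ * (xd δ * xb t) * xe ε * xf (-(t * ε)) * xf ζ := by group
    _ = (xc γ * xb t) * xd δ * xe ε * xf (-(t * ε)) * xf ζ := by rw [(R.bd t δ).symm.eq]; group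
    _ = _ := by rw [(R.bc t γ).symm.eq]; group

lemma ba_zz (t u : K) : xb u * xa t = xa t * xb u * zz xc xd xe xf (t * u) (t ^ 2 * u) (-(t ^ 3 * u)) (-(t ^ 3 * u ^ 2)) := by
  rw [R.ba]
  unfold zz
  group

/-- The multiplication of the normal form. -/
theorem gg_mul (α β γ δ ε ζ α' β' γ' δ' ε' ζ' : K) :
    gg xa xb xc xd xe xf α β γ δ ε ζ * gg xa xb xc xd xe xf α' β' γ' δ' ε' ζ' =
      gg xa xb xc xd xe xf (α + α') (β + β') (α' * β + γ + γ') (α' ^ 2 * β + (δ - α' * γ) + δ')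
        (-(α' ^ 3 * β) + ε + ε') (-(α' ^ 3 * β ^ 2) + ζ - β' * (-(α' ^ 3 * β) + ε) + ζ') := by
  unfold gg
  set Z := zz xc xd xe xf γ δ ε ζ
  set Z' := zz xc xd xe xf γ' δ' ε' ζ'
  have h1 := R.zz_a γ δ ε ζ α'
  have h2 := R.ba_zz α' β
  have h3 := R.zz_mul (α' * β) (α' ^ 2 * β) (-(α' ^ 3 * β)) (-(α' ^ 3 * β ^ 2)) γ (δ - α' * γ) ε ζ
  have h4 := R.zz_b (α' * β + γ) (α' ^ 2 * β + (δ - α' * γ)) (-(α' ^ 3 * β) + ε) (-(α' ^ 3 * β ^ 2) + ζ) β'
  have h5 := R.zz_mul (α' * β + γ) (α' ^ 2 * β + (δ - α' * γ)) (-(α' ^ 3 * β) + ε) (-(α' ^ 3 * β ^ 2) + ζ - β' * (-(α' ^ 3 * β) + ε)) γ' δ' ε' ζ'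
  calc xa α * xb β * Z * (xa α' * xb β' * Z') = xa α * xb β * (Z * xa α') * xb β' * Z' := by group
    _ = xa α * (xb β * xa α') * zz xc xd xe xf γ (δ - α' * γ) ε ζ * xb β' * Z' := by rw [h1]; group
    _ = (xa α * xa α') * xb β * (zz xc xd xe xf (α' * β) (α' ^ 2 * β) (-(α' ^ 3 * β)) (-(α' ^ 3 * β ^ 2)) * zz xc xd xe xf γ (δ - α' * γ) ε ζ) * xb β' * Z' := by
      rw [h2]; group
    _ = xa (α + α') * xb β * (zz xc xd xe xf (α' * β + γ) (α' ^ 2 * β + (δ - α' * γ)) (-(α' ^ 3 * β) + ε) (-(α' ^ 3 * β ^ 2) + ζ) * xb β') * Z' := by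
      rw [h3, R.addA]; group
    _ = xa (α + α') * (xb β * xb β') * (zz xc xd xe xf (α' * β + γ) (α' ^ 2 * β + (δ - α' * γ)) (-(α' ^ 3 * β) + ε) (-(α' ^ 3 * β ^ 2) + ζ - β' * (-(α' ^ 3 * β) + ε)) * Z') := by
      rw [h4]; group
    _ = _ := by rw [h5, R.addB]

lemma gg_zero : gg xa xb xc xd xe xf 0 0 0 0 0 0 = 1 := by
  unfold gg zz
  rw [zero_of_add R.addA, zero_of_add R.addB, zero_of_add R.addC, zero_of_add R.addD, zero_of_add R.addE, zero_of_add R.addF]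
  simp

lemma gg_a (t : K) : gg xa xb xc xd xe xf t 0 0 0 0 0 = xa t := by
  unfold gg zz
  rw [zero_of_add R.addB, zero_of_add R.addC, zero_of_add R.addD, zero_of_add R.addE, zero_of_add R.addF]
  simp

lemma gg_b (t : K) : gg xa xb xc xd xe xf 0 t 0 0 0 0 = xb t := by
  unfold gg zz
  rw [zero_of_add R.addA, zero_of_add R.addC, zero_of_add R.addD, zero_of_add R.addE, zero_of_add R.addF]
  simp

lemma gg_c (t : K) : gg xa xb xc xd xe xf 0 0 t 0 0 0 = xc t := by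
  unfold gg zz
  rw [zero_of_add R.addA, zero_of_add R.addB, zero_of_add R.addD, zero_of_add R.addE, zero_of_add R.addF]
  simp

lemma gg_d (t : K) : gg xa xb xc xd xe xf 0 0 0 t 0 0 = xd t := by
  unfold gg zz
  rw [zero_of_add R.addA, zero_of_add R.addB, zero_of_add R.addC, zero_of_add R.addE, zero_of_add R.addF]
  simp

lemma gg_e (t : K) : gg xa xb xc xd xe xf 0 0 0 0 t 0 = xe t := by
  unfold gg zz
  rw [zero_of_add R.addA, zero_of_add R.addB, zero_of_add R.addC, zero_of_add R.addD, zero_of_add R.addF]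
  simp

lemma gg_f (t : K) : gg xa xb xc xd xe xf 0 0 0 0 0 t = xf t := by
  unfold gg zz
  rw [zero_of_add R.addA, zero_of_add R.addB, zero_of_add R.addC, zero_of_add R.addD, zero_of_add R.addE]
  simp

/-- The inverse of the normal form. -/
theorem gg_inv (α β γ δ ε ζ : K) :
    (gg xa xb xc xd xe xf α β γ δ ε ζ)⁻¹ = gg xa xb xc xd xe xf (-α) (-β) (-((-α) * β + γ)) (-((-α) ^ 2 * β + (δ - (-α) * γ)))
      (-(-((-α) ^ 3 * β) + ε)) (-(-((-α) ^ 3 * β ^ 2) + ζ - (-β) * (-((-α) ^ 3 * β) + ε))) := by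
  refine inv_eq_of_mul_eq_one_right ?_
  rw [R.gg_mul]
  have e : ∀ a : K, a + -a = 0 := add_neg_cancel
  rw [e, e]
  have e1 : (-α) * β + γ + -((-α) * β + γ) = 0 := e _
  rw [e1, e, e, e]
  exact R.gg_zero

/-- The set of normal forms as a subgroup. -/
def ggSub (R : G2Rel xa xb xc xd xe xf) : Subgroup G where
  carrier := {g | ∃ α β γ δ ε ζ, g = gg xa xb xc xd xe xf α β γ δ ε ζ}
  one_mem' := ⟨0, 0, 0, 0, 0, 0, R.gg_zero.symm⟩
  mul_mem' := by
    rintro a b ⟨α, β, γ, δ, ε, ζ, rfl⟩ ⟨α', β', γ', δ', ε', ζ', rfl⟩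
    exact ⟨_, _, _, _, _, _, R.gg_mul ..⟩
  inv_mem' := by
    rintro a ⟨α, β, γ, δ, ε, ζ, rfl⟩
    exact ⟨_, _, _, _, _, _, R.gg_inv ..⟩

/-- The form of the image under the exchange of the roots. -/
theorem swap_form (A₁ A₂ A₃ A₄ A₅ A₆ : K) :
    xb A₁ * xa A₂ * xe A₃ * xf A₄ * xc A₅ * xd A₆ =
      gg xa xb xc xd xe xf A₂ A₁ (A₂ * A₁ + A₅) (A₂ ^ 2 * A₁ + A₆) (-(A₂ ^ 3 * A₁) + A₃) (-(A₂ ^ 3 * A₁ ^ 2) + A₄) := by
  have h1 : xe A₃ * xf A₄ * xc A₅ * xd A₆ = zz xc xd xe xf A₅ A₆ A₃ A₄ := by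
    unfold zz
    calc xe A₃ * xf A₄ * xc A₅ * xd A₆ = xe A₃ * (xf A₄ * xc A₅) * xd A₆ := by group
      _ = (xe A₃ * xc A₅) * xf A₄ * xd A₆ := by rw [(R.cf A₅ A₄).symm.eq]; group
      _ = xc A₅ * xe A₃ * (xf A₄ * xd A₆) := by rw [(R.ce A₅ A₃).symm.eq]; group
      _ = xc A₅ * (xe A₃ * xd A₆) * xf A₄ := by rw [(R.df A₆ A₄).symm.eq]; group
      _ = _ := by rw [(R.de A₆ A₃).symm.eq]; group
  have h2 := R.zz_mul (A₂ * A₁) (A₂ ^ 2 * A₁) (-(A₂ ^ 3 * A₁)) (-(A₂ ^ 3 * A₁ ^ 2)) A₅ A₆ A₃ A₄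
  unfold gg
  rw [← h2, ← mul_assoc, ← R.ba_zz, ← h1]
  group

end G2Rel

end Cfsg.Agent.Lib.Chev
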