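/-
The group ²G₂(q): the relations of the root elements in characteristic three, and the automorphism.
-/
import Cfsg.Agent.Lib.Tw.ExcTw
import Cfsg.Agent.Lib.Tw.G2Rel
import Cfsg.Agent.Lib.Chev.T3G2

set_option autoImplicit false
set_option maxRecDepth 100000

namespace Cfsg.Agent.Lib.Chev

open Cfsg.Lie

section

variable {K : Type*} [Field K]

/-- The root elements of type `G₂`. -/
noncomputable abbrev xG2 (r : ℕ) (t : K) : GL chevG2.Idx K := good3G2.toGood2.xN r t

/-- A pair of root elements commuting in characteristic three. -/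
lemma commG2 [CharP K 3] {r s : ℕ} (h : digG2.tbl.chkWEq 3 [(r, mP 1 1 0), (s, mP 1 0 1)] [(s, mP 1 0 1), (r, mP 1 1 0)] = true) (a b : K) :
    Commute (xG2 r a) (xG2 s b) := by
  have e := good3G2.toGood2.wEq (F := K) h a b
  simpa [mP_val, Commute, SemiconjBy] using e

/-- The relations in characteristic three. -/
theorem g2Rel [CharP K 3] : G2Rel (xG2 (K := K) 7) (xG2 6) (xG2 8) (xG2 9) (xG2 10) (xG2 11) where
  addA := fun s t => good3G2.toGood2.xN_add (by decide) s t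
  addB := fun s t => good3G2.toGood2.xN_add (by decide) s t
  addC := fun s t => good3G2.toGood2.xN_add (by decide) s t
  addD := fun s t => good3G2.toGood2.xN_add (by decide) s t
  addE := fun s t => good3G2.toGood2.xN_add (by decide) s t
  addF := fun s t => good3G2.toGood2.xN_add (by decide) s t
  ba := fun t u => by
    have e := good3G2.toGood2.wEq (F := K) (p := 3) (w := [(6, mP 1 0 1), (7, mP 1 1 0)])
      (w' := [(7, mP 1 1 0), (6, mP 1 0 1), (8, mP 1 1 1), (9, mP 1 2 1), (10, mP (-1) 3 1), (11, mP (-1) 3 2)]) (by decide +kernel) t u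
    simpa [mP_val, mul_assoc] using e
  ca := fun t u => by
    have e := good3G2.toGood2.wEq (F := K) (p := 3) (w := [(8, mP 1 0 1), (7, mP 1 1 0)])
      (w' := [(7, mP 1 1 0), (8, mP 1 0 1), (9, mP (-1) 1 1)]) (by decide +kernel) t u
    simpa [mP_val, mul_assoc] using e
  eb := fun t u => by
    have e := good3G2.toGood2.wEq (F := K) (p := 3) (w := [(10, mP 1 0 1), (6, mP 1 1 0)])
      (w' := [(6, mP 1 1 0), (10, mP 1 0 1), (11, mP (-1) 1 1)]) (by decide +kernel) t u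
    simpa [mP_val, mul_assoc] using e
  ad := commG2 (by decide +kernel)
  ae := commG2 (by decide +kernel)
  af := commG2 (by decide +kernel)
  bc := commG2 (by decide +kernel)
  bd := commG2 (by decide +kernel)
  bf := commG2 (by decide +kernel)
  cd := commG2 (by decide +kernel)
  ce := commG2 (by decide +kernel)
  cf := commG2 (by decide +kernel)
  de := commG2 (by decide +kernel)
  df := commG2 (by decide +kernel)
  ef := commG2 (by decide +kernel)

/-- The normal form of type `G₂`. -/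
noncomputable abbrev ggG2 (α β γ δ ε ζ : K) : GL chevG2.Idx K :=
  G2Rel.gg (xG2 (K := K) 7) (xG2 6) (xG2 8) (xG2 9) (xG2 10) (xG2 11) α β γ δ ε ζ

lemma ggG2_eq_gW (α β γ δ ε ζ : K) :
    ggG2 α β γ δ ε ζ = good3G2.toGood2.gW [(7, α), (6, β), (8, γ), (9, δ), (10, ε), (11, ζ)] := by
  simp [G2Rel.gg, G2Rel.zz, mul_assoc]

theorem tauG2 : excG2.tau 7 = 6 ∧ excG2.tau 6 = 7 ∧ excG2.tau 8 = 10 ∧ excG2.tau 9 = 11 ∧ excG2.tau 10 = 8 ∧ excG2.tau 11 = 9 := by
  decide +kernel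

theorem expG2 : excG2.exp 7 = 3 ∧ excG2.exp 6 = 1 ∧ excG2.exp 8 = 3 ∧ excG2.exp 9 = 3 ∧ excG2.exp 10 = 1 ∧ excG2.exp 11 = 1 := by
  decide +kernel

section Tw

variable [CharP K 3]

/-- The twisted automorphism of type `G₂`. -/
noncomputable def twG2 (hperf : ∀ x : K, ∃ y : K, y ^ 3 = x) (φ : K ≃+* K) : Tw good3G2.toGood2 K :=
  haveI : Fact excG2.p.Prime := ⟨Nat.prime_three⟩
  haveI : CharP K excG2.p := ‹CharP K 3›
  Tw.ofExc good3G2.toGood2 excG2 excG2_gen hperf φ excG2_pos (by decide +kernel) (by decide +kernel)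

variable (hperf : ∀ x : K, ∃ y : K, y ^ 3 = x) (φ : K ≃+* K)

lemma twG2_tau : (twG2 hperf φ).τ = excG2.tau := rfl

lemma twG2_f (r : ℕ) (t : K) : (twG2 hperf φ).f r t = φ (t ^ excG2.exp r) := rfl

/-- The image of the normal form. -/
theorem sig_ggG2 (α β γ δ ε ζ : K) :
    (twG2 hperf φ).sig (ggG2 α β γ δ ε ζ) =
      ggG2 (φ β) (φ (α ^ 3)) (φ β * φ (α ^ 3) + φ ε) ((φ β) ^ 2 * φ (α ^ 3) + φ ζ)
        (-((φ β) ^ 3 * φ (α ^ 3)) + φ (γ ^ 3)) (-((φ β) ^ 3 * (φ (α ^ 3)) ^ 2) + φ (δ ^ 3)) := by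
  refine Eq.trans ?_ ((g2Rel (K := K)).swap_form (φ (α ^ 3)) (φ β) (φ (γ ^ 3)) (φ (δ ^ 3)) (φ ε) (φ ζ))
  rw [ggG2_eq_gW, Tw.sig_gW _ (by
    intro e he
    simp only [List.mem_cons, List.not_mem_nil, or_false] at he
    have h : ∀ r ∈ [7, 6, 8, 9, 10, 11], r < chevG2.nroots := by decide
    rcases he with rfl | rfl | rfl | rfl | rfl | rfl <;> exact h _ (by simp))]
  obtain ⟨t1, t2, t3, t4, t5, t6⟩ := tauG2
  obtain ⟨e1, e2, e3, e4, e5, e6⟩ := expG2
  simp only [List.map_cons, List.map_nil, twG2_tau, twG2_f, t1, t2, t3, t4, t5, t6, e1, e2, e3, e4, e5, e6, pow_one,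
    Tbl.Good2.gW_cons, Tbl.Good2.gW_nil, mul_one, mul_assoc]

end Tw

end

end Cfsg.Agent.Lib.Chev
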