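/-
The group ²G₂(q): the normal form in `U`, the fixed points of `U`, and the orbit data.
-/
import Cfsg.Agent.Lib.Tw.ReeG2

set_option autoImplicit false
set_option maxRecDepth 100000

namespace Cfsg.Agent.Lib.Chev

open Cfsg.Lie

section

variable {K : Type*} [Field K]

/-- The normal form in the order of the indices. -/
lemma ggG2_nf [CharP K 3] (α β γ δ ε ζ : K) :
    ggG2 α β γ δ ε ζ = good3G2.toGood2.gW [(6, β), (7, α), (8, γ - α * β), (9, δ - α ^ 2 * β), (10, ε + α ^ 3 * β), (11, ζ + α ^ 3 * β ^ 2)] := by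
  have h2 := (g2Rel (K := K)).ba_zz α β
  have h3 := (g2Rel (K := K)).zz_mul (α * β) (α ^ 2 * β) (-(α ^ 3 * β)) (-(α ^ 3 * β ^ 2))
    (γ - α * β) (δ - α ^ 2 * β) (ε + α ^ 3 * β) (ζ + α ^ 3 * β ^ 2)
  have e1 : α * β + (γ - α * β) = γ := by ring
  have e2 : α ^ 2 * β + (δ - α ^ 2 * β) = δ := by ring
  have e3 : -(α ^ 3 * β) + (ε + α ^ 3 * β) = ε := by ring
  have e4 : -(α ^ 3 * β ^ 2) + (ζ + α ^ 3 * β ^ 2) = ζ := by ring
  rw [e1, e2, e3, e4] at h3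
  show xG2 7 α * xG2 6 β * G2Rel.zz (xG2 8) (xG2 9) (xG2 10) (xG2 11) γ δ ε ζ = _
  rw [← h3, ← mul_assoc, ← h2]
  simp [G2Rel.zz, mul_assoc]

/-- The uniqueness of the normal form. -/
theorem ggG2_inj [CharP K 3] {α β γ δ ε ζ α' β' γ' δ' ε' ζ' : K} (h : ggG2 α β γ δ ε ζ = ggG2 α' β' γ' δ' ε' ζ') :
    α = α' ∧ β = β' ∧ γ = γ' ∧ δ = δ' ∧ ε = ε' ∧ ζ = ζ' := by
  rw [ggG2_nf, ggG2_nf] at h
  have h1 := congrArg Units.val h
  rw [good3G2.toGood2.gW_coe, good3G2.toGood2.gW_coe] at h1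
  let t : ℕ → K := fun r => [β, α, γ - α * β, δ - α ^ 2 * β, ε + α ^ 3 * β, ζ + α ^ 3 * β ^ 2].getD (r - 6) 0
  let t' : ℕ → K := fun r => [β', α', γ' - α' * β', δ' - α' ^ 2 * β', ε' + α' ^ 3 * β', ζ' + α' ^ 3 * β' ^ 2].getD (r - 6) 0
  have h2 := good3G2.toGood2.range_word_unique (F := K) (k := 6) 6 (by decide) (by decide) (t := t) (t' := t') h1
  have a0 : β = β' := h2 6 le_rfl (by norm_num)
  have a1 : α = α' := h2 7 (by norm_num) (by norm_num)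
  have a2 : γ - α * β = γ' - α' * β' := h2 8 (by norm_num) (by norm_num)
  have a3 : δ - α ^ 2 * β = δ' - α' ^ 2 * β' := h2 9 (by norm_num) (by norm_num)
  have a4 : ε + α ^ 3 * β = ε' + α' ^ 3 * β' := h2 10 (by norm_num) (by norm_num)
  have a5 : ζ + α ^ 3 * β ^ 2 = ζ' + α' ^ 3 * β' ^ 2 := h2 11 (by norm_num) (by norm_num)
  subst a0 a1
  exact ⟨rfl, rfl, sub_left_inj.1 a2, sub_left_inj.1 a3, add_left_inj _ |>.1 a4, add_left_inj _ |>.1 a5⟩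

/-- The root elements lie in the set of normal forms. -/
lemma xG2_mem_ggSub [CharP K 3] {r : ℕ} (h1 : 6 ≤ r) (h2 : r < 12) (t : K) : xG2 r t ∈ (g2Rel (K := K)).ggSub := by
  interval_cases r
  · exact ⟨0, t, 0, 0, 0, 0, ((g2Rel (K := K)).gg_b t).symm⟩
  · exact ⟨t, 0, 0, 0, 0, 0, ((g2Rel (K := K)).gg_a t).symm⟩
  · exact ⟨0, 0, t, 0, 0, 0, ((g2Rel (K := K)).gg_c t).symm⟩
  · exact ⟨0, 0, 0, t, 0, 0, ((g2Rel (K := K)).gg_d t).symm⟩
  · exact ⟨0, 0, 0, 0, t, 0, ((g2Rel (K := K)).gg_e t).symm⟩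
  · exact ⟨0, 0, 0, 0, 0, t, ((g2Rel (K := K)).gg_f t).symm⟩

/-- Every element of `U` has a normal form. -/
theorem U_eq_ggSub [CharP K 3] : chevG2.posUnipotent K = (g2Rel (K := K)).ggSub := by
  apply le_antisymm
  · refine (Subgroup.closure_le _).2 ?_
    rintro g ⟨r, t, hr, hg⟩
    have h1 := (good3G2.toGood2.isPos_iff hr.1).1 hr
    have h2 : r < 12 := hr.1
    have e : g = xG2 r t := by
      show g = good3G2.toGood2.xN r t
      rw [good3G2.toGood2.eq_xU hr.1 hg, good3G2.toGood2.xN_of_lt hr.1]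
    rw [e]
    exact xG2_mem_ggSub h1 h2 t
  · rintro g ⟨α, β, γ, δ, ε, ζ, rfl⟩
    have key : ∀ r, 6 ≤ r → r < 12 → ∀ t : K, xG2 r t ∈ chevG2.posUnipotent K := by
      intro r h1 h2 t
      have e := good3G2.toGood2.xN_of_lt (r := r) h2 t
      show good3G2.toGood2.xN r t ∈ _
      rw [e]
      exact good3G2.toGood2.xU_mem_U h2 h1 t
    unfold G2Rel.gg G2Rel.zz
    exact Subgroup.mul_mem _ (Subgroup.mul_mem _ (key 7 (by norm_num) (by norm_num) _) (key 6 (by norm_num) (by norm_num) _))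
      (Subgroup.mul_mem _ (Subgroup.mul_mem _ (Subgroup.mul_mem _ (key 8 (by norm_num) (by norm_num) _) (key 9 (by norm_num) (by norm_num) _))
        (key 10 (by norm_num) (by norm_num) _)) (key 11 (by norm_num) (by norm_num) _))

/-- The fixed elements of `U`. -/
noncomputable def reeU (φ : K ≃+* K) (t u v : K) : GL chevG2.Idx K :=
  ggG2 (φ t) t (φ t * t + φ u) ((φ t) ^ 2 * t + φ v) u v

section Tw

variable [CharP K 3] (hperf : ∀ x : K, ∃ y : K, y ^ 3 = x) (φ : K ≃+* K)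

lemma add_cube (a b : K) : (a + b) ^ 3 = a ^ 3 + b ^ 3 := add_pow_char a b 3

omit [CharP K 3] in
lemma reeU_mem_group (t u v : K) : reeU φ t u v ∈ chevG2.group K := by
  unfold reeU
  rw [ggG2_eq_gW]
  exact good3G2.toGood2.gW_mem _

lemma reeU_mem_U (t u v : K) : reeU φ t u v ∈ chevG2.posUnipotent K := by
  rw [U_eq_ggSub]
  exact ⟨_, _, _, _, _, _, rfl⟩

theorem reeU_sig (hφ : ∀ x, φ (φ (x ^ 3)) = x) (t u v : K) : (twG2 hperf φ).sig (reeU φ t u v) = reeU φ t u v := by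
  have h1 : ∀ x, φ ((φ x) ^ 3) = x := fun x => by
    rw [← map_pow]
    exact hφ x
  unfold reeU
  rw [sig_ggG2, h1 t]
  have e1 : φ ((φ t * t + φ u) ^ 3) = t * (φ t) ^ 3 + u := by
    rw [add_cube, mul_pow, map_add, map_mul, h1, h1, map_pow]
  have e2 : φ (((φ t) ^ 2 * t + φ v) ^ 3) = t ^ 2 * (φ t) ^ 3 + v := by
    rw [add_cube, mul_pow, map_add, map_mul, h1, map_pow φ t 3, ← pow_mul, mul_comm 2 3, pow_mul, map_pow, h1]
  rw [e1, e2]
  congr 1 <;> ring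

theorem reeU_fix (hφ : ∀ x, φ (φ (x ^ 3)) = x) (t u v : K) : reeU φ t u v ∈ (twG2 hperf φ).fix :=
  ⟨reeU_mem_group φ t u v, reeU_sig hperf φ hφ t u v⟩

/-- The fixed elements of `U` are the elements `reeU`. -/
theorem mem_U_fix_iff (hφ : ∀ x, φ (φ (x ^ 3)) = x) {g : GL chevG2.Idx K} :
    g ∈ chevG2.posUnipotent K ⊓ (twG2 hperf φ).fix ↔ ∃ t u v, g = reeU φ t u v := by
  constructor
  · rintro ⟨hU, _, hf⟩
    rw [U_eq_ggSub] at hU
    obtain ⟨α, β, γ, δ, ε, ζ, rfl⟩ := hU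
    rw [sig_ggG2] at hf
    obtain ⟨a1, a2, a3, a4, _, _⟩ := ggG2_inj hf
    rw [a2] at a3 a4
    subst a1 a3 a4
    exact ⟨β, ε, ζ, rfl⟩
  · rintro ⟨t, u, v, rfl⟩
    exact ⟨reeU_mem_U φ t u v, reeU_fix hperf φ hφ t u v⟩

theorem reeU_inj {t u v t' u' v' : K} (h : reeU φ t u v = reeU φ t' u' v') : t = t' ∧ u = u' ∧ v = v' := by
  obtain ⟨_, a, _, _, b, c⟩ := ggG2_inj h
  exact ⟨a, b, c⟩

end Tw

end

end Cfsg.Agent.Lib.Chev
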