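/-
The group ²G₂(q): the orbit data and the representative of the longest element.
-/
import Cfsg.Agent.Lib.Tw.ReeG2b

set_option autoImplicit false
set_option maxRecDepth 100000

namespace Cfsg.Agent.Lib.Chev

open Cfsg.Lie

/-- The orbit of a simple root. -/
def inJG2 (_ : ℕ) : ℕ := 0

/-- The letters of the orbit. -/
def wJG2 (_ : ℕ) : List ℕ := [0, 1, 0, 1, 0, 1]

/-- The orbit data of type `G₂`. -/
noncomputable def orbG2 : TwOrb digG2.tbl chevG2 excG2.tau :=
  TwOrb.ofT2 good3G2.toGood2 1 inJG2 wJG2 (by decide +kernel) (by decide +kernel) (by decide +kernel)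
    (by
      have h : ∀ i, i < chevG2.rank → ∀ i', i' < chevG2.rank → inJG2 i = inJG2 i' → ∃ k, k < 2 ∧ excG2.tau^[k] (chevG2.simple i) = chevG2.simple i' := by decide +kernel
      intro i i' hi hi' e
      obtain ⟨k, _, hk⟩ := h i hi i' hi' e
      exact ⟨k, hk⟩)
    (by decide +kernel) (by
      intro j hj
      obtain rfl : j = 0 := by omega
      decide +kernel)

/-- The chain of `G₂`. -/
theorem chainG2' : chainOK digG2.tbl chevG2 orbG2 [] [0] :=
  chainB_spec good3G2.toGood2 orbG2 (by decide +kernel)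

section

variable {K : Type*} [Field K]

lemma nE_eq_gW {D : ChevalleyDatum} {T : Tbl} (hG : T.Good2 D) {F : Type*} [Field F] {i : ℕ} (hi : i < D.rank) :
    hG.nE (F := F) i = hG.gW [(D.simple i, 1), (D.neg (D.simple i), -1), (D.simple i, 1)] := by
  rw [hG.nE_eq hi]
  apply Units.ext
  rw [hG.gW_coe, Tbl.Good.nU_coe]
  simp [ChevalleyDatum.nMat, ChevalleyDatum.nWord, ChevalleyDatum.neg]

/-- The product of the simple reflections as a product of root elements, in characteristic three. -/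
lemma nProdG2_eq [CharP K 3] : good3G2.toGood2.nProd (F := K) [0, 1, 0, 1, 0, 1] =
    (xG2 8 1 * xG2 10 1) * (xG2 3 (-1) * xG2 1 (-1)) * (xG2 8 1 * xG2 10 1) := by
  have e := good3G2.toGood2.wEqN (F := K) (p := 3)
    (w := [(7, mP 1 0 0), (4, mP (-1) 0 0), (7, mP 1 0 0), (6, mP 1 0 0), (5, mP (-1) 0 0), (6, mP 1 0 0),
      (7, mP 1 0 0), (4, mP (-1) 0 0), (7, mP 1 0 0), (6, mP 1 0 0), (5, mP (-1) 0 0), (6, mP 1 0 0),
      (7, mP 1 0 0), (4, mP (-1) 0 0), (7, mP 1 0 0), (6, mP 1 0 0), (5, mP (-1) 0 0), (6, mP 1 0 0)])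
    (w' := [(8, mP 1 0 0), (10, mP 1 0 0), (3, mP (-1) 0 0), (1, mP (-1) 0 0), (8, mP 1 0 0), (10, mP 1 0 0)])
    (by decide +kernel) 0 0
  simp only [Tbl.Good2.nProd_cons, Tbl.Good2.nProd_nil]
  have h0 : good3G2.toGood2.nE (F := K) 0 = good3G2.toGood2.gW [(7, 1), (4, -1), (7, 1)] := by
    rw [nE_eq_gW _ (show 0 < chevG2.rank by decide), show chevG2.simple 0 = 7 by decide, show chevG2.neg 7 = 4 by decide]
  have h1 : good3G2.toGood2.nE (F := K) 1 = good3G2.toGood2.gW [(6, 1), (5, -1), (6, 1)] := by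
    rw [nE_eq_gW _ (show 1 < chevG2.rank by decide), show chevG2.simple 1 = 6 by decide, show chevG2.neg 6 = 5 by decide]
  rw [h0, h1]
  simpa [mP_val, mul_assoc] using e

end

end Cfsg.Agent.Lib.Chev
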