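/-
The group ²G₂(q): the data for the BN-pair.
-/
import Cfsg.Agent.Lib.Tw.ReeG2c
import Cfsg.Agent.Lib.Tw.Gen

set_option autoImplicit false
set_option maxRecDepth 100000

namespace Cfsg.Agent.Lib.Chev

open Cfsg.Lie

section

variable {K : Type*} [Field K]

/-- The representative of the longest element. -/
noncomputable abbrev n0G2 : GL chevG2.Idx K := good3G2.toGood2.nProd [0, 1, 0, 1, 0, 1]

section Char

variable [CharP K 3]

lemma n0G2_eq : n0G2 (K := K) = (xG2 8 1 * xG2 10 1) * (xG2 3 (-1) * xG2 1 (-1)) * (xG2 8 1 * xG2 10 1) :=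
  nProdG2_eq

/-- Conjugation by the representative of the longest element. -/
lemma n0G2_mul_x6 (c : K) : n0G2 * xG2 6 c = xG2 5 (-c) * n0G2 := by
  have e := good3G2.toGood2.wEqN (F := K) (p := 3)
    (w := [(8, mP 1 0 0), (10, mP 1 0 0), (3, mP (-1) 0 0), (1, mP (-1) 0 0), (8, mP 1 0 0), (10, mP 1 0 0), (6, mP 1 1 0)])
    (w' := [(5, mP (-1) 1 0), (8, mP 1 0 0), (10, mP 1 0 0), (3, mP (-1) 0 0), (1, mP (-1) 0 0), (8, mP 1 0 0), (10, mP 1 0 0)])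
    (by decide +kernel) c 0
  rw [n0G2_eq]
  simpa [mP_val, mul_assoc] using e

lemma n0G2_mul_x7 (c : K) : n0G2 * xG2 7 c = xG2 4 (-c) * n0G2 := by
  have e := good3G2.toGood2.wEqN (F := K) (p := 3)
    (w := [(8, mP 1 0 0), (10, mP 1 0 0), (3, mP (-1) 0 0), (1, mP (-1) 0 0), (8, mP 1 0 0), (10, mP 1 0 0), (7, mP 1 1 0)])
    (w' := [(4, mP (-1) 1 0), (8, mP 1 0 0), (10, mP 1 0 0), (3, mP (-1) 0 0), (1, mP (-1) 0 0), (8, mP 1 0 0), (10, mP 1 0 0)])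
    (by decide +kernel) c 0
  rw [n0G2_eq]
  simpa [mP_val, mul_assoc] using e

lemma n0G2_mul_x8 (c : K) : n0G2 * xG2 8 c = xG2 3 (-c) * n0G2 := by
  have e := good3G2.toGood2.wEqN (F := K) (p := 3)
    (w := [(8, mP 1 0 0), (10, mP 1 0 0), (3, mP (-1) 0 0), (1, mP (-1) 0 0), (8, mP 1 0 0), (10, mP 1 0 0), (8, mP 1 1 0)])
    (w' := [(3, mP (-1) 1 0), (8, mP 1 0 0), (10, mP 1 0 0), (3, mP (-1) 0 0), (1, mP (-1) 0 0), (8, mP 1 0 0), (10, mP 1 0 0)])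
    (by decide +kernel) c 0
  rw [n0G2_eq]
  simpa [mP_val, mul_assoc] using e

lemma n0G2_mul_x9 (c : K) : n0G2 * xG2 9 c = xG2 2 (-c) * n0G2 := by
  have e := good3G2.toGood2.wEqN (F := K) (p := 3)
    (w := [(8, mP 1 0 0), (10, mP 1 0 0), (3, mP (-1) 0 0), (1, mP (-1) 0 0), (8, mP 1 0 0), (10, mP 1 0 0), (9, mP 1 1 0)])
    (w' := [(2, mP (-1) 1 0), (8, mP 1 0 0), (10, mP 1 0 0), (3, mP (-1) 0 0), (1, mP (-1) 0 0), (8, mP 1 0 0), (10, mP 1 0 0)])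
    (by decide +kernel) c 0
  rw [n0G2_eq]
  simpa [mP_val, mul_assoc] using e

lemma n0G2_mul_x10 (c : K) : n0G2 * xG2 10 c = xG2 1 (-c) * n0G2 := by
  have e := good3G2.toGood2.wEqN (F := K) (p := 3)
    (w := [(8, mP 1 0 0), (10, mP 1 0 0), (3, mP (-1) 0 0), (1, mP (-1) 0 0), (8, mP 1 0 0), (10, mP 1 0 0), (10, mP 1 1 0)])
    (w' := [(1, mP (-1) 1 0), (8, mP 1 0 0), (10, mP 1 0 0), (3, mP (-1) 0 0), (1, mP (-1) 0 0), (8, mP 1 0 0), (10, mP 1 0 0)])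
    (by decide +kernel) c 0
  rw [n0G2_eq]
  simpa [mP_val, mul_assoc] using e

lemma n0G2_mul_x11 (c : K) : n0G2 * xG2 11 c = xG2 0 (-c) * n0G2 := by
  have e := good3G2.toGood2.wEqN (F := K) (p := 3)
    (w := [(8, mP 1 0 0), (10, mP 1 0 0), (3, mP (-1) 0 0), (1, mP (-1) 0 0), (8, mP 1 0 0), (10, mP 1 0 0), (11, mP 1 1 0)])
    (w' := [(0, mP (-1) 1 0), (8, mP 1 0 0), (10, mP 1 0 0), (3, mP (-1) 0 0), (1, mP (-1) 0 0), (8, mP 1 0 0), (10, mP 1 0 0)])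
    (by decide +kernel) c 0
  rw [n0G2_eq]
  simpa [mP_val, mul_assoc] using e

lemma n0G2_mul_x6' (c : K) (y : GL chevG2.Idx K) : n0G2 * (xG2 6 c * y) = xG2 5 (-c) * (n0G2 * y) := by
  rw [← mul_assoc, n0G2_mul_x6, mul_assoc]
lemma n0G2_mul_x7' (c : K) (y : GL chevG2.Idx K) : n0G2 * (xG2 7 c * y) = xG2 4 (-c) * (n0G2 * y) := by
  rw [← mul_assoc, n0G2_mul_x7, mul_assoc]
lemma n0G2_mul_x8' (c : K) (y : GL chevG2.Idx K) : n0G2 * (xG2 8 c * y) = xG2 3 (-c) * (n0G2 * y) := by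
  rw [← mul_assoc, n0G2_mul_x8, mul_assoc]
lemma n0G2_mul_x9' (c : K) (y : GL chevG2.Idx K) : n0G2 * (xG2 9 c * y) = xG2 2 (-c) * (n0G2 * y) := by
  rw [← mul_assoc, n0G2_mul_x9, mul_assoc]
lemma n0G2_mul_x10' (c : K) (y : GL chevG2.Idx K) : n0G2 * (xG2 10 c * y) = xG2 1 (-c) * (n0G2 * y) := by
  rw [← mul_assoc, n0G2_mul_x10, mul_assoc]
lemma n0G2_mul_x11' (c : K) (y : GL chevG2.Idx K) : n0G2 * (xG2 11 c * y) = xG2 0 (-c) * (n0G2 * y) := by
  rw [← mul_assoc, n0G2_mul_x11, mul_assoc]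

/-- The image of the normal form under the representative of the longest element. -/
lemma n0G2_mul_gg (α β γ δ ε ζ : K) : n0G2 * ggG2 α β γ δ ε ζ =
    good3G2.toGood2.gW [(4, -α), (5, -β), (3, -γ), (2, -δ), (1, -ε), (0, -ζ)] * n0G2 := by
  rw [ggG2_eq_gW]
  simp only [Tbl.Good2.gW_cons, Tbl.Good2.gW_nil, mul_one, mul_assoc, n0G2_mul_x6', n0G2_mul_x7', n0G2_mul_x8',
    n0G2_mul_x9', n0G2_mul_x10', n0G2_mul_x11', n0G2_mul_x11]

end Char

section Tw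

variable [CharP K 3] (hperf : ∀ x : K, ∃ y : K, y ^ 3 = x) (φ : K ≃+* K)

omit [CharP K 3] in
lemma reeU_zero_u (u : K) : reeU φ 0 u 0 = xG2 8 (φ u) * xG2 10 u := by
  unfold reeU
  rw [ggG2_eq_gW]
  simp [Tbl.Good2.xN_zero]

/-- The elements of the opposite group. -/
noncomputable def reeV (t u v : K) : GL chevG2.Idx K := n0G2 * reeU φ t u v * n0G2⁻¹

lemma reeV_eq (t u v : K) : reeV φ t u v = good3G2.toGood2.gW [(4, -φ t), (5, -t), (3, -(φ t * t + φ u)),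
    (2, -((φ t) ^ 2 * t + φ v)), (1, -u), (0, -v)] := by
  unfold reeV reeU
  rw [n0G2_mul_gg, mul_inv_cancel_right]

lemma reeV_zero_u (u : K) : reeV φ 0 u 0 = xG2 3 (-φ u) * xG2 1 (-u) := by
  rw [reeV_eq]
  simp [Tbl.Good2.xN_zero]

/-- The representative of the longest element is fixed. -/
theorem n0G2_fix (hφ : ∀ x, φ (φ (x ^ 3)) = x) : n0G2 ∈ (twG2 hperf φ).fix := by
  have hX : xG2 8 1 * xG2 10 (1 : K) ∈ (twG2 hperf φ).fix := by
    have := reeU_fix hperf φ hφ 0 1 0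
    rwa [reeU_zero_u, map_one] at this
  have hY : xG2 3 (-1) * xG2 1 (-1 : K) ∈ (twG2 hperf φ).fix := by
    refine ⟨Subgroup.mul_mem _ (good3G2.toGood2.xN_mem _ _) (good3G2.toGood2.xN_mem _ _), ?_⟩
    rw [Tw.sig_mul _ (good3G2.toGood2.xN_mem _ _) (good3G2.toGood2.xN_mem _ _), Tw.sig_xN _ (show 3 < chevG2.nroots by decide),
      Tw.sig_xN _ (show 1 < chevG2.nroots by decide), twG2_tau, twG2_f, twG2_f,
      show excG2.tau 3 = 1 by decide +kernel, show excG2.tau 1 = 3 by decide +kernel,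
      show excG2.exp 3 = 3 by decide +kernel, show excG2.exp 1 = 1 by decide +kernel]
    have e : (-1 : K) ^ 3 = -1 := by ring
    rw [e, pow_one, map_neg, map_one]
    exact (commG2 (by decide +kernel) (-1) (-1)).eq
  rw [n0G2_eq]
  exact Subgroup.mul_mem _ (Subgroup.mul_mem _ hX hY) hX

theorem reeV_fix (hφ : ∀ x, φ (φ (x ^ 3)) = x) (t u v : K) : reeV φ t u v ∈ (twG2 hperf φ).fix :=
  Subgroup.mul_mem _ (Subgroup.mul_mem _ (n0G2_fix hperf φ hφ) (reeU_fix hperf φ hφ t u v))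
    (Subgroup.inv_mem _ (n0G2_fix hperf φ hφ))

omit [CharP K 3] in
lemma XJ_G2 {j : ℕ} (hj : j < orbG2.m) : XJ chevG2 K (orbG2.J j) = chevG2.posUnipotent K := by
  have hj' : j < 1 := hj
  obtain rfl : j = 0 := by omega
  rw [Tw.U_eq_rootsGen]
  unfold XJ
  congr 1
  funext r
  apply propext
  constructor
  · exact fun h => h.1
  · intro h
    exact ⟨h, h.1, fun i _ hi => absurd rfl hi⟩

/-- The data for the BN-pair of `²G₂`. -/
noncomputable def twnG2 (hφ : ∀ x, φ (φ (x ^ 3)) = x) : TwN (twG2 hperf φ) orbG2 where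
  good3 := good3G2
  n _ := n0G2
  mem _ _ := good3G2.toGood2.nProd_mem_N (by decide)
  fix _ _ := n0G2_fix hperf φ hφ
  perm j hj r := by
    have hj' : j < 1 := hj
    obtain rfl : j = 0 := by omega
    exact good3G2.toGood2.permN_nProd (by decide) r
  nontriv j hj := by
    refine ⟨reeU φ 1 0 0, ?_, reeU_fix hperf φ hφ 1 0 0, fun h => ?_⟩
    · exact (XJ_G2 (K := K) hj).ge (reeU_mem_U φ 1 0 0)
    · have h0 : reeU φ 0 0 0 = 1 := by
        rw [reeU_zero_u]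
        simp [Tbl.Good2.xN_zero]
      have := (reeU_inj φ (h.trans h0.symm)).1
      exact one_ne_zero this

end Tw

end

end Cfsg.Agent.Lib.Chev
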