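/-
The group ²G₂(q): the fixed points of the diagonal subgroup.
-/
import Cfsg.Agent.Lib.Tw.ReeG2d
import Cfsg.Agent.Lib.Tw.HChar
import Cfsg.Prelude.Def_LieTwisted

set_option autoImplicit false
set_option maxRecDepth 100000

namespace Cfsg.Agent.Lib.Chev

open Cfsg.Lie

section

variable {K : Type*} [Field K]

lemma nR_G2 {r r' : ℕ} (hr : r < chevG2.nroots) (e : chevG2.neg r = r') (t : K) :
    good3G2.toGood2.nR hr t = xG2 r t * xG2 r' (-t⁻¹) * xG2 r t := by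
  subst e
  unfold Tbl.Good2.nR
  show _ = good3G2.toGood2.xN r t * good3G2.toGood2.xN _ _ * good3G2.toGood2.xN r t
  rw [good3G2.toGood2.xN_of_lt hr, good3G2.toGood2.xN_of_lt (good3G2.toGood2.neg_lt hr)]

/-- The value of the character at `h_r(c)`. -/
noncomputable abbrev h8 {c : K} (hc : c ≠ 0) : GL chevG2.Idx K := good3G2.toGood2.hU (r := 8) (by decide) hc
noncomputable abbrev h10 {c : K} (hc : c ≠ 0) : GL chevG2.Idx K := good3G2.toGood2.hU (r := 10) (by decide) hc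

section Char

variable [CharP K 3]

lemma nR8_comm_nR10 (a b : K) :
    Commute (good3G2.toGood2.nR (r := 8) (by decide) a) (good3G2.toGood2.nR (r := 10) (by decide) b) := by
  rw [nR_G2 _ (show chevG2.neg 8 = 3 by decide), nR_G2 _ (show chevG2.neg 10 = 1 by decide)]
  have h1 : ∀ x y : K, Commute (xG2 8 x) (xG2 10 y) := commG2 (by decide +kernel)
  have h2 : ∀ x y : K, Commute (xG2 8 x) (xG2 1 y) := commG2 (by decide +kernel)
  have h3 : ∀ x y : K, Commute (xG2 3 x) (xG2 10 y) := commG2 (by decide +kernel)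
  have h4 : ∀ x y : K, Commute (xG2 3 x) (xG2 1 y) := commG2 (by decide +kernel)
  have key : ∀ y : K, Commute (xG2 8 a * xG2 3 (-a⁻¹) * xG2 8 a) (xG2 10 y) := fun y =>
    ((h1 _ _).mul_left (h3 _ _)).mul_left (h1 _ _)
  have key2 : ∀ y : K, Commute (xG2 8 a * xG2 3 (-a⁻¹) * xG2 8 a) (xG2 1 y) := fun y =>
    ((h2 _ _).mul_left (h4 _ _)).mul_left (h2 _ _)
  exact ((key _).mul_right (key2 _)).mul_right (key _)

variable (φ : K ≃+* K)

/-- The product of the two words. -/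
noncomputable def nnG2 (c : K) : GL chevG2.Idx K := reeU φ 0 c 0 * reeV φ 0 c⁻¹ 0 * reeU φ 0 c 0

lemma nnG2_eq (c : K) : nnG2 φ c = good3G2.toGood2.nR (r := 8) (by decide) (φ c) * good3G2.toGood2.nR (r := 10) (by decide) c := by
  unfold nnG2
  rw [reeU_zero_u, reeV_zero_u, nR_G2 _ (show chevG2.neg 8 = 3 by decide), nR_G2 _ (show chevG2.neg 10 = 1 by decide), map_inv₀]
  have h1 : ∀ x y : K, Commute (xG2 8 x) (xG2 10 y) := commG2 (by decide +kernel)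
  have h2 : ∀ x y : K, Commute (xG2 8 x) (xG2 1 y) := commG2 (by decide +kernel)
  have h3 : ∀ x y : K, Commute (xG2 3 x) (xG2 10 y) := commG2 (by decide +kernel)
  calc xG2 8 (φ c) * xG2 10 c * (xG2 3 (-(φ c)⁻¹) * xG2 1 (-c⁻¹)) * (xG2 8 (φ c) * xG2 10 c)
      = xG2 8 (φ c) * (xG2 10 c * xG2 3 (-(φ c)⁻¹)) * (xG2 1 (-c⁻¹) * xG2 8 (φ c)) * xG2 10 c := by group
    _ = xG2 8 (φ c) * (xG2 3 (-(φ c)⁻¹) * xG2 10 c) * (xG2 8 (φ c) * xG2 1 (-c⁻¹)) * xG2 10 c := by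
        rw [(h3 _ _).symm.eq, (h2 _ _).symm.eq]
    _ = xG2 8 (φ c) * xG2 3 (-(φ c)⁻¹) * (xG2 10 c * xG2 8 (φ c)) * xG2 1 (-c⁻¹) * xG2 10 c := by group
    _ = xG2 8 (φ c) * xG2 3 (-(φ c)⁻¹) * (xG2 8 (φ c) * xG2 10 c) * xG2 1 (-c⁻¹) * xG2 10 c := by
        rw [(h1 _ _).symm.eq]
    _ = _ := by group

/-- The semisimple elements from the words. -/
lemma nn_mul_inv {c : K} (hc : c ≠ 0) :
    nnG2 φ c * (nnG2 φ 1)⁻¹ = h8 ((map_ne_zero φ).2 hc) * h10 hc := by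
  rw [nnG2_eq, nnG2_eq, map_one, h8, h10, ← good3G2.toGood2.nR_mul_inv, ← good3G2.toGood2.nR_mul_inv]
  have e := (nR8_comm_nR10 (1 : K) c).inv_left
  calc good3G2.toGood2.nR (r := 8) (by decide) (φ c) * good3G2.toGood2.nR (r := 10) (by decide) c *
        (good3G2.toGood2.nR (r := 8) (by decide) 1 * good3G2.toGood2.nR (r := 10) (by decide) 1)⁻¹
      = good3G2.toGood2.nR (r := 8) (by decide) (φ c) * (good3G2.toGood2.nR (r := 10) (by decide) c *
        (good3G2.toGood2.nR (r := 10) (by decide) 1)⁻¹) * (good3G2.toGood2.nR (r := 8) (by decide) 1)⁻¹ := by group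
    _ = good3G2.toGood2.nR (r := 8) (by decide) (φ c) * ((good3G2.toGood2.nR (r := 8) (by decide) 1)⁻¹ *
        (good3G2.toGood2.nR (r := 10) (by decide) c * (good3G2.toGood2.nR (r := 10) (by decide) 1)⁻¹)) := by
        rw [mul_assoc]
        congr 1
        exact (((nR8_comm_nR10 (1 : K) c).mul_right ((nR8_comm_nR10 (1 : K) 1).inv_right)).inv_left).symm.eq
    _ = _ := by group

/-- The element with value `-1`. -/
lemma iotaG2_eq : good3G2.toGood2.hU (r := 7) (by decide) (show (-1 : K) ≠ 0 by simp) * good3G2.toGood2.hU (r := 6) (by decide) (show (-1 : K) ≠ 0 by simp) * n0G2 =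
    reeU φ 0 (-1) (-1) * reeV φ 0 1 1 * reeU φ (-1) 1 1 := by
  have e := good3G2.toGood2.wEqN (F := K) (p := 3)
    (w := [(7, mP (-1) 0 0), (4, mP 1 0 0), (7, mP (-1) 0 0), (7, mP (-1) 0 0), (4, mP 1 0 0), (7, mP (-1) 0 0),
      (6, mP (-1) 0 0), (5, mP 1 0 0), (6, mP (-1) 0 0), (6, mP (-1) 0 0), (5, mP 1 0 0), (6, mP (-1) 0 0),
      (8, mP 1 0 0), (10, mP 1 0 0), (3, mP (-1) 0 0), (1, mP (-1) 0 0), (8, mP 1 0 0), (10, mP 1 0 0)])
    (w' := [(8, mP (-1) 0 0), (9, mP (-1) 0 0), (10, mP (-1) 0 0), (11, mP (-1) 0 0),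
      (3, mP (-1) 0 0), (2, mP (-1) 0 0), (1, mP (-1) 0 0), (0, mP (-1) 0 0),
      (7, mP (-1) 0 0), (6, mP (-1) 0 0), (8, mP 2 0 0), (10, mP 1 0 0), (11, mP 1 0 0)])
    (by decide +kernel) 0 0
  have e7 := good3G2.toGood2.hU_eq_nR (r := 7) (by decide) (show (-1 : K) ≠ 0 by simp)
  have e6 := good3G2.toGood2.hU_eq_nR (r := 6) (by decide) (show (-1 : K) ≠ 0 by simp)
  rw [e7, e6, nR_G2 _ (show chevG2.neg 7 = 4 by decide), nR_G2 _ (show chevG2.neg 6 = 5 by decide), n0G2_eq, reeV_eq]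
  unfold reeU
  rw [ggG2_eq_gW, ggG2_eq_gW]
  simp only [map_zero, map_neg, map_one, Tbl.Good2.gW_cons, Tbl.Good2.gW_nil, Tbl.Good2.xN_zero, neg_zero, zero_mul, mul_zero, zero_add, add_zero,
    mul_one, one_mul, mul_neg, neg_mul, inv_neg, inv_one, neg_neg, even_two, Even.neg_pow, one_pow]
  simp only [mP_val, List.map_cons, List.map_nil, Tbl.Good2.gW_cons, Tbl.Good2.gW_nil, Int.cast_neg, Int.cast_one, Int.cast_ofNat, pow_zero, mul_one, neg_mul, one_mul] at e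
  simp only [mul_assoc] at e ⊢
  rw [show (1 : K) + 1 = 2 by norm_num, neg_add_cancel, Tbl.Good2.xN_zero, one_mul]
  exact e

/-- The values on the root `a`. -/
noncomputable abbrev chi7 : ↥(chevG2.diagonalSubgroup K) →* Kˣ := good3G2.toGood2.chi (r := 7) (by decide)

noncomputable abbrev chi6 : ↥(chevG2.diagonalSubgroup K) →* Kˣ := good3G2.toGood2.chi (r := 6) (by decide)

omit [CharP K 3] in
lemma chi7_z {c : K} (hc : c ≠ 0) (hz : h8 ((map_ne_zero φ).2 hc) * h10 hc ∈ chevG2.diagonalSubgroup K) :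
    (chi7 ⟨h8 ((map_ne_zero φ).2 hc) * h10 hc, hz⟩ : K) = c * (φ c)⁻¹ := by
  refine good3G2.toGood2.chi_eq _ _ ?_
  have e : h8 ((map_ne_zero φ).2 hc) * h10 hc * good3G2.toGood2.xU (r := 7) (by decide) (1 : K) * (h8 ((map_ne_zero φ).2 hc) * h10 hc)⁻¹ =
      h8 ((map_ne_zero φ).2 hc) * (h10 hc * good3G2.toGood2.xU (r := 7) (by decide) (1 : K) * (h10 hc)⁻¹) * (h8 ((map_ne_zero φ).2 hc))⁻¹ := by group
  show h8 ((map_ne_zero φ).2 hc) * h10 hc * good3G2.toGood2.xU (r := 7) (by decide) (1 : K) * (h8 ((map_ne_zero φ).2 hc) * h10 hc)⁻¹ = _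
  rw [e, good3G2.toGood2.hU_conj_x, good3G2.toGood2.hU_conj_x,
    show chevG2.pairing 8 7 = -1 by decide +kernel, show chevG2.pairing 10 7 = 1 by decide +kernel]
  congr 1
  simp only [zpow_neg, zpow_one, mul_one]
  exact mul_comm _ _

omit [CharP K 3] in
lemma chi7_iota (hz : good3G2.toGood2.hU (r := 7) (by decide) (show (-1 : K) ≠ 0 by simp) * good3G2.toGood2.hU (r := 6) (by decide) (show (-1 : K) ≠ 0 by simp) ∈ chevG2.diagonalSubgroup K) :
    (chi7 ⟨good3G2.toGood2.hU (r := 7) (by decide) (show (-1 : K) ≠ 0 by simp) * good3G2.toGood2.hU (r := 6) (by decide) (show (-1 : K) ≠ 0 by simp), hz⟩ : K) = -1 := by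
  refine good3G2.toGood2.chi_eq _ _ ?_
  have e : ∀ A B X : GL chevG2.Idx K, A * B * X * (A * B)⁻¹ = A * (B * X * B⁻¹) * A⁻¹ := by
    intro A B X
    group
  show _ * _ * good3G2.toGood2.xU (r := 7) (by decide) (1 : K) * (_ * _)⁻¹ = _
  rw [e, good3G2.toGood2.hU_conj_x, good3G2.toGood2.hU_conj_x,
    show chevG2.pairing 7 7 = 2 by decide +kernel, show chevG2.pairing 6 7 = -1 by decide +kernel]
  congr 1
  norm_num

end Char

section Tw

variable [CharP K 3] (hperf : ∀ x : K, ∃ y : K, y ^ 3 = x) (φ : K ≃+* K)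

/-- An element of `H` fixed by the automorphism is determined by its value on `a`. -/
theorem eq_of_chi7 {z z' : ↥(chevG2.diagonalSubgroup K)} (hz : (z : GL chevG2.Idx K) ∈ (twG2 hperf φ).fix)
    (hz' : (z' : GL chevG2.Idx K) ∈ (twG2 hperf φ).fix) (h : chi7 z = chi7 z') : z = z' := by
  have hzz : (((z * z'⁻¹ : ↥(chevG2.diagonalSubgroup K))) : GL chevG2.Idx K) ∈ (twG2 hperf φ).fix :=
    Subgroup.mul_mem _ hz (Subgroup.inv_mem _ hz')
  have h7 : chi7 (z * z'⁻¹) = 1 := by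
    rw [map_mul, map_inv, h, mul_inv_cancel]
  have h6 : chi6 (z * z'⁻¹) = 1 := by
    have h1 := (twG2 hperf φ).chi_tw hzz (r := 7) (by decide) 1
    rw [twG2_f, twG2_f, show excG2.exp 7 = 3 by decide +kernel] at h1
    have h2 : (good3G2.toGood2.chi (r := 7) (by decide) (z * z'⁻¹) : K) = 1 := by
      rw [show good3G2.toGood2.chi (r := 7) (by decide) (z * z'⁻¹) = 1 from h7]
      rfl
    rw [h2] at h1
    simp only [one_pow, mul_one, map_one] at h1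
    apply Units.ext
    exact h1
  have h1 := good3G2.toGood2.eq_one_of_chi (z * z'⁻¹) (fun i hi => by
    have hi' : i < 2 := hi
    interval_cases i
    · exact h7
    · exact h6)
  exact mul_inv_eq_one.1 h1

lemma nnG2_one_eq : nnG2 φ (1 : K) = n0G2 := by
  unfold nnG2
  rw [reeU_zero_u, reeV_zero_u, n0G2_eq, inv_one, map_one]

/-- Elements of `H` with a prescribed value in a subgroup containing the words. -/
theorem exists_H_value (hφ : ∀ x, φ (φ (x ^ 3)) = x) {G1 : Subgroup (GL chevG2.Idx K)}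
    (hU : ∀ t u v, reeU φ t u v ∈ G1) (hV : ∀ t u v, reeV φ t u v ∈ G1)
    {s : K} {r : K} (hr : r ≠ 0) (hs : s = r ^ 2 ∨ s = -r ^ 2) :
    ∃ z : ↥(chevG2.diagonalSubgroup K), (z : GL chevG2.Idx K) ∈ G1 ∧ (chi7 z : K) = s := by
  have hnn : ∀ c, nnG2 φ c ∈ G1 := fun c => Subgroup.mul_mem _ (Subgroup.mul_mem _ (hU _ _ _) (hV _ _ _)) (hU _ _ _)
  set c : K := r ^ 3 * (φ r) ^ 3 with hc
  have hr' : φ r ≠ 0 := (map_ne_zero φ).2 hr
  have hc0 : c ≠ 0 := mul_ne_zero (pow_ne_zero _ hr) (pow_ne_zero _ hr')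
  have h1 : φ ((φ r) ^ 3) = r := by
    rw [← map_pow]
    exact hφ r
  have hval : c * (φ c)⁻¹ = r ^ 2 := by
    have e : φ c = (φ r) ^ 3 * r := by
      rw [hc, map_mul, map_pow, h1]
    rw [e, hc]
    field_simp
  have hzH : h8 ((map_ne_zero φ).2 hc0) * h10 hc0 ∈ chevG2.diagonalSubgroup K :=
    Subgroup.mul_mem _ (good3G2.toGood2.hU_mem _ _) (good3G2.toGood2.hU_mem _ _)
  have hzG : h8 ((map_ne_zero φ).2 hc0) * h10 hc0 ∈ G1 := by
    rw [← nn_mul_inv φ hc0]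
    exact Subgroup.mul_mem _ (hnn c) (Subgroup.inv_mem _ (hnn 1))
  rcases hs with rfl | rfl
  · refine ⟨⟨_, hzH⟩, hzG, ?_⟩
    rw [chi7_z φ hc0 hzH, hval]
  · have hiH := Subgroup.mul_mem _ (good3G2.toGood2.hU_mem (r := 7) (by decide) (show (-1 : K) ≠ 0 by simp)) (good3G2.toGood2.hU_mem (r := 6) (by decide) (show (-1 : K) ≠ 0 by simp))
    have hiG : good3G2.toGood2.hU (r := 7) (by decide) (show (-1 : K) ≠ 0 by simp) * good3G2.toGood2.hU (r := 6) (by decide) (show (-1 : K) ≠ 0 by simp) ∈ G1 := by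
      rw [eq_mul_inv_of_mul_eq (iotaG2_eq (K := K) φ)]
      refine Subgroup.mul_mem _ (Subgroup.mul_mem _ (Subgroup.mul_mem _ (hU _ _ _) (hV _ _ _)) (hU _ _ _)) (Subgroup.inv_mem _ ?_)
      rw [← nnG2_one_eq φ]
      exact hnn 1
    refine ⟨⟨_, hiH⟩ * ⟨_, hzH⟩, Subgroup.mul_mem _ hiG hzG, ?_⟩
    rw [map_mul, Units.val_mul, chi7_iota hiH, chi7_z φ hc0 hzH, hval]
    ring

/-- The fixed points of `H` lie in a subgroup containing the words. -/
theorem H_fix_le (hφ : ∀ x, φ (φ (x ^ 3)) = x) (hsq : ∀ s : K, s ≠ 0 → ∃ r : K, r ≠ 0 ∧ (s = r ^ 2 ∨ s = -r ^ 2))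
    {G1 : Subgroup (GL chevG2.Idx K)} (hG1 : G1 ≤ (twG2 hperf φ).fix)
    (hU : ∀ t u v, reeU φ t u v ∈ G1) (hV : ∀ t u v, reeV φ t u v ∈ G1) :
    chevG2.diagonalSubgroup K ⊓ (twG2 hperf φ).fix ≤ G1 := by
  rintro g ⟨hgH, hgf⟩
  obtain ⟨r, hr, hs⟩ := hsq _ (chi7 ⟨g, hgH⟩).ne_zero
  obtain ⟨z, hz, hzv⟩ := exists_H_value φ hφ hU hV hr hs
  have e := eq_of_chi7 hperf φ (z := ⟨g, hgH⟩) (z' := z) hgf (hG1 hz) (Units.ext hzv.symm)
  have e2 : g = z := congrArg Subtype.val e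
  rw [e2]
  exact hz

/-- The word in the statement. -/
theorem gW_reeWordU {e : ℕ} (hq : ∀ x, φ x = x ^ e) (t u v : K) :
    good3G2.toGood2.gW (reeWordU e t u v) = reeU φ t u v := by
  unfold reeU
  rw [ggG2_eq_gW]
  congr 1
  simp only [reeWordU, hq]
  have e1 : t ^ (e + 1) = t ^ e * t := pow_succ _ _
  have e2 : t ^ (2 * e + 1) = (t ^ e) ^ 2 * t := by
    rw [pow_succ, mul_comm 2 e, pow_mul]
  rw [e1, e2]
  rfl

theorem gW_reeWordV {e : ℕ} (hq : ∀ x, φ x = x ^ e) (t u v : K) :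
    good3G2.toGood2.gW (reeWordV e t u v) = reeV φ t u v := by
  rw [reeV_eq]
  congr 1
  simp only [reeWordV, reeWordU, hq]
  have e1 : t ^ (e + 1) = t ^ e * t := pow_succ _ _
  have e2 : t ^ (2 * e + 1) = (t ^ e) ^ 2 * t := by
    rw [pow_succ, mul_comm 2 e, pow_mul]
  rw [e1, e2]
  rfl

/-- `²G₂` is the group of fixed points. -/
theorem twistedG2_eq {e : ℕ} (hq : ∀ x, φ x = x ^ e) (hφ : ∀ x, φ (φ (x ^ 3)) = x)
    (hsq : ∀ s : K, s ≠ 0 → ∃ r : K, r ≠ 0 ∧ (s = r ^ 2 ∨ s = -r ^ 2)) :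
    twistedG2 K e = (twG2 hperf φ).fix := by
  have hle : twistedG2 K e ≤ (twG2 hperf φ).fix := by
    refine (Subgroup.closure_le _).2 ?_
    rintro g ⟨w, ⟨t, u, v, rfl | rfl⟩, hg⟩
    · rw [good3G2.toGood2.eq_gW hg, gW_reeWordU φ hq]
      exact reeU_fix hperf φ hφ t u v
    · rw [good3G2.toGood2.eq_gW hg, gW_reeWordV φ hq]
      exact reeV_fix hperf φ hφ t u v
  have hU : ∀ t u v, reeU φ t u v ∈ twistedG2 K e := fun t u v => by
    rw [← gW_reeWordU φ hq]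
    exact Subgroup.subset_closure ⟨_, ⟨t, u, v, Or.inl rfl⟩, good3G2.toGood2.gW_coe _⟩
  have hV : ∀ t u v, reeV φ t u v ∈ twistedG2 K e := fun t u v => by
    rw [← gW_reeWordV φ hq]
    exact Subgroup.subset_closure ⟨_, ⟨t, u, v, Or.inr rfl⟩, good3G2.toGood2.gW_coe _⟩
  refine le_antisymm hle ?_
  refine (twnG2 hperf φ hφ).fix_le chainG2' ?_ ?_ (H_fix_le hperf φ hφ hsq hle hU hV)
  · rintro j hj x ⟨hx, hf⟩
    have hx' : x ∈ chevG2.posUnipotent K := (XJ_G2 (K := K) hj).le hx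
    obtain ⟨t, u, v, rfl⟩ := (mem_U_fix_iff hperf φ hφ).1 ⟨hx', hf⟩
    exact hU t u v
  · intro j _
    show n0G2 ∈ _
    rw [← nnG2_one_eq φ]
    exact Subgroup.mul_mem _ (Subgroup.mul_mem _ (hU _ _ _) (hV _ _ _)) (hU _ _ _)

end Tw

end

end Cfsg.Agent.Lib.Chev
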