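/-
The group ²G₂(q): the finite setting, the orders of `U¹`, `H¹` and of the group.
-/
import Cfsg.Agent.Lib.Tw.ReeG2e
import Cfsg.Agent.Lib.Tw.Par3
import Cfsg.Agent.Lib.Tw.Frob

set_option autoImplicit false
set_option maxRecDepth 100000

namespace Cfsg.Agent.Lib.Chev

open Cfsg.Lie

/-- The head letter of the orbit. -/
def hdG2 (_ : ℕ) : ℕ := 0

/-- The weight of the orbit. -/
def wtG2 (_ : ℕ) : ℕ := 3

/-- Labels and weights, level 0. -/
def parOrbG20 : List (ℕ × ℕ) := [(0xfc0, 0), (0x3f, 3)]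

theorem chkParOrbG20 : digG2.tbl.chkOrbT 1 inJG2 wJG2 hdG2 wtG2 3 0 0xfc0 parOrbG20 = true := by decide +kernel

theorem sumParOrbG20 (q : ℕ) : (parOrbG20.map fun e => q ^ e.2).sum = 1 + q ^ 3 := by
  simp only [parOrbG20, List.map_cons, List.map_nil, List.sum_cons, List.sum_nil]
  ring

section

variable {K : Type*} [Field K] [Fintype K] {m : ℕ}

/-- The characteristic of the field. -/
theorem charG2 (hK : Fintype.card K = 3 ^ (2 * m + 1)) : CharP K 3 := by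
  obtain ⟨p, hc, n, hp, hn⟩ := FiniteField.card' (K := K)
  have h1 : p ∣ 3 ^ (2 * m + 1) := by
    rw [← hK, hn]
    exact dvd_pow_self _ n.ne_zero
  have h2 : p = 3 := (Nat.prime_dvd_prime_iff_eq hp Nat.prime_three).1 (hp.dvd_of_dvd_pow h1)
  subst h2
  exact hc

lemma mod_four_G2 (m : ℕ) : 3 ^ (2 * m + 1) % 4 = 3 := by
  rw [pow_succ, pow_mul, Nat.mul_mod, Nat.pow_mod]
  norm_num

/-- Every nonzero element or its negative is a square. -/
theorem sq_or_neg_sq [CharP K 3] (hK : Fintype.card K = 3 ^ (2 * m + 1)) (s : K) (hs : s ≠ 0) :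
    ∃ r : K, r ≠ 0 ∧ (s = r ^ 2 ∨ s = -r ^ 2) := by
  classical
  have hchar : ringChar K ≠ 2 := by
    rw [ringChar.eq K 3]
    norm_num
  have h1 : ¬ IsSquare (-1 : K) := by
    rw [FiniteField.isSquare_neg_one_iff, hK, mod_four_G2]
    simp
  by_cases h : IsSquare s
  · obtain ⟨r, hr⟩ := h
    refine ⟨r, ?_, Or.inl (by rw [hr, pow_two])⟩
    rintro rfl
    exact hs (by simpa using hr)
  · have e1 := (quadraticChar_neg_one_iff_not_isSquare (F := K)).2 h1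
    have e2 := (quadraticChar_neg_one_iff_not_isSquare (F := K)).2 h
    have e3 : quadraticChar K (-s) = 1 := by
      have : -s = (-1) * s := by ring
      rw [this, map_mul, e1, e2]
      norm_num
    have hns : -s ≠ 0 := neg_ne_zero.2 hs
    obtain ⟨r, hr⟩ := (quadraticChar_one_iff_isSquare hns).1 e3
    refine ⟨r, ?_, Or.inr (by rw [pow_two, ← hr, neg_neg])⟩
    rintro rfl
    exact hns (by simpa using hr)

/-- The data of `²G₂(3^(2m+1))`. -/
theorem setupG2 [CharP K 3] (hK : Fintype.card K = 3 ^ (2 * m + 1)) :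
    ∃ (hperf : ∀ x : K, ∃ y : K, y ^ 3 = x) (φ : K ≃+* K), (∀ x, φ x = x ^ 3 ^ m) ∧ (∀ x, φ (φ (x ^ 3)) = x) ∧
      twistedG2 K (3 ^ m) = (twG2 hperf φ).fix := by
  haveI : Fact (Nat.Prime 3) := ⟨Nat.prime_three⟩
  haveI : ExpChar K 3 := ExpChar.prime Nat.prime_three
  have hbij : Function.Bijective (iterateFrobenius K 3 m) :=
    Finite.injective_iff_bijective.1 (iterateFrobenius K 3 m).injective
  let φ : K ≃+* K := RingEquiv.ofBijective _ hbij
  have hq : ∀ x, φ x = x ^ 3 ^ m := fun x => iterateFrobenius_def 3 m x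
  have hφ : ∀ x, φ (φ (x ^ 3)) = x := fun x => by
    rw [hq, hq, ← pow_mul, ← pow_mul]
    have e : 3 * (3 ^ m * 3 ^ m) = 3 ^ (2 * m + 1) := by ring
    rw [e, ← hK, FiniteField.pow_card]
  have hperf : ∀ x : K, ∃ y : K, y ^ 3 = x := fun x => ⟨φ (φ x), by
    rw [← map_pow, ← map_pow]
    exact hφ x⟩
  exact ⟨hperf, φ, hq, hφ, twistedG2_eq hperf φ hq hφ (sq_or_neg_sq hK)⟩

end

section

variable {K : Type*} [Field K] [CharP K 3] (hperf : ∀ x : K, ∃ y : K, y ^ 3 = x) (φ : K ≃+* K)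

/-- The value on `a` on the fixed points of `H`. -/
noncomputable def chiFix : ↥(chevG2.diagonalSubgroup K ⊓ (twG2 hperf φ).fix) →* Kˣ :=
  chi7.comp (Subgroup.inclusion inf_le_left)

lemma chiFix_apply (z : ↥(chevG2.diagonalSubgroup K ⊓ (twG2 hperf φ).fix)) :
    chiFix hperf φ z = chi7 ⟨z.1, z.2.1⟩ := rfl

theorem chiFix_bij (hφ : ∀ x, φ (φ (x ^ 3)) = x) (hsq : ∀ s : K, s ≠ 0 → ∃ r : K, r ≠ 0 ∧ (s = r ^ 2 ∨ s = -r ^ 2)) :
    Function.Bijective (chiFix hperf φ) := by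
  constructor
  · intro a b e
    have := eq_of_chi7 hperf φ (z := ⟨a.1, a.2.1⟩) (z' := ⟨b.1, b.2.1⟩) a.2.2 b.2.2 e
    exact Subtype.ext (congrArg (fun x : ↥(chevG2.diagonalSubgroup K) => x.1) this)
  · intro s
    obtain ⟨r, hr, hs⟩ := hsq _ s.ne_zero
    obtain ⟨z, hz, hzv⟩ := exists_H_value φ hφ (G1 := (twG2 hperf φ).fix) (reeU_fix hperf φ hφ) (reeV_fix hperf φ hφ) hr hs
    exact ⟨⟨z.1, z.2, hz⟩, Units.ext hzv⟩

/-- The order of the fixed points of `U`. -/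
theorem cardUG2 (hφ : ∀ x, φ (φ (x ^ 3)) = x) [Finite K] :
    Nat.card ↥(chevG2.posUnipotent K ⊓ (twG2 hperf φ).fix) = Nat.card K ^ 3 := by
  have e : K × K × K ≃ ↥(chevG2.posUnipotent K ⊓ (twG2 hperf φ).fix) :=
    Equiv.ofBijective (fun p => ⟨reeU φ p.1 p.2.1 p.2.2, (mem_U_fix_iff hperf φ hφ).2 ⟨_, _, _, rfl⟩⟩) ⟨by
      rintro ⟨t, u, v⟩ ⟨t', u', v'⟩ h
      obtain ⟨a, b, c⟩ := reeU_inj φ (congrArg Subtype.val h)
      subst a b c
      rfl, by
      rintro ⟨g, hg⟩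
      obtain ⟨t, u, v, rfl⟩ := (mem_U_fix_iff hperf φ hφ).1 hg
      exact ⟨(t, u, v), rfl⟩⟩
  rw [← Nat.card_congr e, Nat.card_prod, Nat.card_prod]
  ring

end

section

variable {K : Type*} [Field K] [Fintype K] {m : ℕ}

omit [Field K] in
lemma cardK_G2 (hK : Fintype.card K = 3 ^ (2 * m + 1)) : Nat.card K = 3 ^ (2 * m + 1) := by
  rw [Nat.card_eq_fintype_card, hK]

variable [CharP K 3] (hperf : ∀ x : K, ∃ y : K, y ^ 3 = x) (φ : K ≃+* K)

/-- The order of the fixed points of `H`. -/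
theorem cardHG2 (hK : Fintype.card K = 3 ^ (2 * m + 1)) (hφ : ∀ x, φ (φ (x ^ 3)) = x) :
    Nat.card ↥(chevG2.diagonalSubgroup K ⊓ (twG2 hperf φ).fix) = 3 ^ (2 * m + 1) - 1 := by
  rw [Nat.card_congr (Equiv.ofBijective _ (chiFix_bij hperf φ hφ (sq_or_neg_sq hK))), Nat.card_units, cardK_G2 hK]

/-- The fixed points of `H` are cyclic. -/
theorem cyclicHG2 (hK : Fintype.card K = 3 ^ (2 * m + 1)) (hφ : ∀ x, φ (φ (x ^ 3)) = x) :
    IsCyclic ↥(chevG2.diagonalSubgroup K ⊓ (twG2 hperf φ).fix) :=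
  isCyclic_of_injective (chiFix hperf φ) (chiFix_bij hperf φ hφ (sq_or_neg_sq hK)).1

/-- The order of the group. -/
theorem orderRee2G2 (hK : Fintype.card K = 3 ^ (2 * m + 1)) (hφ : ∀ x, φ (φ (x ^ 3)) = x) :
    Nat.card ↥(twG2 hperf φ).fix = (3 ^ (2 * m + 1)) ^ 3 * (3 ^ (2 * m + 1) - 1) * ((3 ^ (2 * m + 1)) ^ 3 + 1) := by
  have A := twnG2 hperf φ hφ
  have hXq : ∀ j, j < orbG2.m → Nat.card ↥(XJ chevG2 K (orbG2.J j) ⊓ (twG2 hperf φ).fix) = (3 ^ (2 * m + 1)) ^ wtG2 j := by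
    intro j hj
    have e := XJ_G2 (K := K) hj
    have e2 := cardUG2 hperf φ hφ
    rw [cardK_G2 hK] at e2
    rw [← e] at e2
    exact e2
  have hhd : ∀ j, j < orbG2.m → hdG2 j < chevG2.rank ∧ orbG2.inJ (hdG2 j) = j := by
    have : ∀ j, j < 1 → hdG2 j < chevG2.rank ∧ inJG2 (hdG2 j) = j := by decide +kernel
    exact this
  have hlet : ∀ j, j < orbG2.m → ∀ i ∈ orbG2.wJ j, orbG2.inJ i = j := by
    have : ∀ j, j < 1 → ∀ i ∈ wJG2 j, inJG2 i = j := by decide +kernel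
    exact this
  have h0 := A.card_par_step hlet hhd hXq chkParOrbG20
  rw [A.par_top (J := maskSet 3) (by
    intro j hj
    have hj' : j < 2 := hj
    interval_cases j <;> rfl), Tbl.Good3.parabolic_zero, TwN.card_B_fix, cardUG2 hperf φ hφ, cardHG2 hperf φ hK hφ, cardK_G2 hK, sumParOrbG20] at h0
  rw [h0]
  ring

end

end Cfsg.Agent.Lib.Chev
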