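/-
Twisted groups: the quotient `N¹/H¹` is a Coxeter group, from a faithful action of the Coxeter group on a set of roots.
-/
import Cfsg.Agent.Lib.Tw.Par
import Cfsg.Agent.Lib.Chev.WeyN

set_option autoImplicit false

namespace Cfsg.Agent.Lib.Chev

open Cfsg.Lie

section

variable {F : Type*} [Field F] {D : ChevalleyDatum} {T : Tbl}

namespace TwN

variable {hG : T.Good2 D} {S : Tw hG F} {O : TwOrb T D S.τ} (A : TwN S O)
include A

omit A in
/-- The action of a fixed element of `N` on the roots. -/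
noncomputable def permFix (hG : T.Good2 D) (S : Tw hG F) : ↥(D.monomialSubgroup F ⊓ S.fix) →* Equiv.Perm (Fin D.nroots) where
  toFun x := hG.permN ⟨x.1, (Subgroup.mem_inf.1 x.2).1⟩
  map_one' := by
    have e : (⟨((1 : ↥(D.monomialSubgroup F ⊓ S.fix)) : GL D.Idx F), (Subgroup.mem_inf.1 (1 : ↥(D.monomialSubgroup F ⊓ S.fix)).2).1⟩ : ↥(D.monomialSubgroup F)) = 1 :=
      Subtype.ext rfl
    rw [e, map_one]
  map_mul' x y := by
    have e : (⟨((x * y : ↥(D.monomialSubgroup F ⊓ S.fix)) : GL D.Idx F), (Subgroup.mem_inf.1 (x * y : ↥(D.monomialSubgroup F ⊓ S.fix)).2).1⟩ : ↥(D.monomialSubgroup F)) =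
        ⟨x.1, (Subgroup.mem_inf.1 x.2).1⟩ * ⟨y.1, (Subgroup.mem_inf.1 y.2).1⟩ := Subtype.ext rfl
    rw [e, map_mul]

omit A in
lemma permFix_coe (x : ↥(D.monomialSubgroup F ⊓ S.fix)) :
    permFix hG S x = hG.permN ⟨x.1, (Subgroup.mem_inf.1 x.2).1⟩ := rfl

/-- The representative of an orbit in `N¹`. -/
def sF' (A : TwN S O) (j : ℕ) (hj : j < O.m) : ↥(D.monomialSubgroup F ⊓ S.fix) := ⟨A.n j, Subgroup.mem_inf.2 ⟨A.mem j hj, A.fix j hj⟩⟩

lemma permFix_s {j : ℕ} (hj : j < O.m) (r : Fin D.nroots) : (permFix hG S (A.sF' j hj) r : ℕ) = wperm T (O.wJ j) r :=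
  A.s_perm hj r

omit A in
lemma permFix_ker : (permFix hG S).ker = (D.diagonalSubgroup F ⊓ S.fix).subgroupOf (D.monomialSubgroup F ⊓ S.fix) := by
  ext x
  rw [MonoidHom.mem_ker, Subgroup.mem_subgroupOf, permFix_coe]
  have hx := Subgroup.mem_inf.1 x.2
  constructor
  · intro h
    exact Subgroup.mem_inf.2 ⟨hG.mem_H_of_permN (n := ⟨x.1, hx.1⟩) h, hx.2⟩
  · intro h
    exact hG.permN_of_H (n := ⟨x.1, hx.1⟩) (Subgroup.mem_inf.1 h).1

/-- The image of `N¹` on the roots lies in any subgroup containing the representatives. -/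
lemma permFix_mem {R' : Subgroup (Equiv.Perm (Fin D.nroots))} (hs : ∀ j (hj : j < O.m), hG.permN (A.s j hj) ∈ R')
    (x : ↥(D.monomialSubgroup F ⊓ S.fix)) : permFix hG S x ∈ R' := by
  have hx := Subgroup.mem_inf.1 x.2
  let R : Subgroup (GL D.Idx F) := (R'.comap hG.permN).map (D.monomialSubgroup F).subtype
  let x' : ↥S.fix := ⟨x.1, hx.2⟩
  have h1 := A.N_le_closure _ x' hx.1 le_rfl
  have h2 : Subgroup.closure A.setS ⊔ ((D.borelSubgroup F).subgroupOf S.fix ⊓ (D.monomialSubgroup F).subgroupOf S.fix) ≤ R.subgroupOf S.fix := by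
    refine sup_le ((Subgroup.closure_le _).2 ?_) ?_
    · rintro g ⟨j, hj, e⟩
      rw [SetLike.mem_coe, Subgroup.mem_subgroupOf]
      exact Subgroup.mem_map.2 ⟨A.s j hj, Subgroup.mem_comap.2 (hs j hj), e.symm⟩
    · intro g hg
      obtain ⟨hb, hm⟩ := Subgroup.mem_inf.1 hg
      rw [Subgroup.mem_subgroupOf] at hb hm ⊢
      have hH : (g : GL D.Idx F) ∈ D.diagonalSubgroup F := by
        have h3 : (g : GL D.Idx F) ∈ D.borelSubgroup F ⊓ D.monomialSubgroup F := Subgroup.mem_inf.2 ⟨hb, hm⟩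
        rwa [hG.B_inf_N] at h3
      refine Subgroup.mem_map.2 ⟨⟨g, hm⟩, Subgroup.mem_comap.2 ?_, rfl⟩
      have e1 : hG.permN (⟨(g : GL D.Idx F), hm⟩ : ↥(D.monomialSubgroup F)) = 1 := hG.permN_of_H (F := F) (n := ⟨(g : GL D.Idx F), hm⟩) hH
      rw [e1]
      exact Subgroup.one_mem _
  have h3 := h2 h1
  rw [Subgroup.mem_subgroupOf] at h3
  obtain ⟨m, hm, e⟩ := Subgroup.mem_map.1 h3
  have e2 : m = ⟨x.1, hx.1⟩ := Subtype.ext e
  rw [e2] at hm
  exact Subgroup.mem_comap.1 hm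

/-- The statement on `N¹/H¹`. -/
theorem N_quot_fix {n : ℕ} (hn : n = O.m) (M : CoxeterMatrix (Fin n))
    (hrel : ∀ i j : Fin n, ∀ r, r < D.nroots → wperm T ((List.replicate (M i j) (O.wJ i ++ O.wJ j)).flatten) r = r)
    {T' : Tbl} {D' : ChevalleyDatum} {ρ : M.Group →* Equiv.Perm (Fin D'.nroots)} (hρ : ∀ (i : Fin n) (r : Fin D'.nroots), (ρ (M.simple i) r).val = T'.refl i r)
    (hρi : Function.Injective ρ) (π : ℕ → ℕ)
    (hπ : ∀ (i : Fin n) (r : ℕ), r < D.nroots → π (wperm T (O.wJ i) r) = T'.refl i (π r))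
    (hπs : ∀ r', r' < D'.nroots → ∃ r, r < D.nroots ∧ π r = r') :
    ∃ φ : ↥(D.monomialSubgroup F ⊓ S.fix) →* M.Group, Function.Surjective φ ∧
      φ.ker = (D.diagonalSubgroup F ⊓ S.fix).subgroupOf (D.monomialSubgroup F ⊓ S.fix) := by
  classical
  have hi : ∀ i : Fin n, (i : ℕ) < O.m := fun i => hn ▸ i.2
  have hlt : ∀ i : Fin n, ∀ a ∈ O.wJ i, a < D.rank := fun i a ha => O.wJ_lt i (hi i) a ha
  let q : Fin n → Equiv.Perm (Fin D.nroots) := fun i => permFix hG S (A.sF' i (hi i))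
  have hq : ∀ i r, (q i r : ℕ) = wperm T (O.wJ i) r := fun i r => A.permFix_s (hi i) r
  have hpw : ∀ (i j : Fin n) (m : ℕ) (r : Fin D.nroots), (((q i * q j) ^ m) r : ℕ) =
      wperm T ((List.replicate m (O.wJ i ++ O.wJ j)).flatten) r := by
    intro i j m r
    induction m with
    | zero => rfl
    | succ m ih =>
      rw [pow_succ', Equiv.Perm.mul_apply, Equiv.Perm.mul_apply, hq, hq, ih, List.replicate_succ, List.flatten_cons,
        wperm_append, wperm_append]
  have hlift : M.IsLiftable q := by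
    intro i j
    ext r
    rw [hpw, hrel i j r r.2]
    rfl
  let θ : M.Group →* Equiv.Perm (Fin D.nroots) := M.toCoxeterSystem.lift ⟨q, hlift⟩
  have hθs : ∀ i, θ (M.toCoxeterSystem.simple i) = q i := fun i => M.toCoxeterSystem.lift_apply_simple hlift i
  have hθw : ∀ (ω : List (Fin n)) (r : Fin D.nroots), (θ (M.toCoxeterSystem.wordProd ω) r : ℕ) =
      wperm T (ω.flatMap fun i : Fin n => O.wJ i) r := by
    intro ω r
    induction ω with
    | nil => simp
    | cons i ω ih =>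
      rw [CoxeterSystem.wordProd_cons, map_mul, Equiv.Perm.mul_apply, hθs, hq, ih, List.flatMap_cons, wperm_append]
  have hπw : ∀ (ω : List (Fin n)) (r : ℕ), r < D.nroots →
      π (wperm T (ω.flatMap fun i : Fin n => O.wJ i) r) = wperm T' (ω.map Fin.val) (π r) := by
    intro ω r hr
    induction ω with
    | nil => rfl
    | cons i ω ih =>
      have hl : ∀ a ∈ ω.flatMap (fun i : Fin n => O.wJ i), a < D.rank := by
        intro a ha
        obtain ⟨b, _, hb⟩ := List.mem_flatMap.1 ha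
        exact hlt b a hb
      rw [List.flatMap_cons, wperm_append, hπ i _ (hG.wperm_lt hl hr), ih, List.map_cons, wperm_cons]
  have hinj : Function.Injective θ := by
    rw [injective_iff_map_eq_one]
    intro g hg
    obtain ⟨ω, rfl⟩ := M.toCoxeterSystem.wordProd_surjective g
    apply hρi
    rw [map_one]
    ext r
    obtain ⟨r0, hr0, e0⟩ := hπs r r.2
    have h1 := hθw ω ⟨r0, hr0⟩
    rw [hg] at h1
    have h2 : wperm T (ω.flatMap fun i : Fin n => O.wJ i) r0 = r0 := h1.symm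
    rw [Wey.rho_word hρ, ← e0, ← hπw ω r0 hr0, h2]
    exact e0
  have hR : ∀ x : ↥(D.monomialSubgroup F ⊓ S.fix), permFix hG S x ∈ θ.range := A.permFix_mem (fun j hj => by
    have hj' : j < n := hn ▸ hj
    exact ⟨M.toCoxeterSystem.simple ⟨j, hj'⟩, (hθs _).trans (Equiv.ext fun r => Fin.ext ((hq _ r).trans (A.s_perm hj r).symm))⟩)
  have hR2 : ∀ g : M.Group, ∃ x, permFix hG S x = θ g := by
    intro g
    obtain ⟨ω, rfl⟩ := M.toCoxeterSystem.wordProd_surjective g
    induction ω with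
    | nil =>
      refine ⟨1, ?_⟩
      simp
    | cons i ω ih =>
      obtain ⟨x, hx⟩ := ih
      refine ⟨A.sF' i (hi i) * x, ?_⟩
      rw [CoxeterSystem.wordProd_cons, map_mul, map_mul, hx, hθs]
  let e := MonoidHom.ofInjective hinj
  let φ : ↥(D.monomialSubgroup F ⊓ S.fix) →* M.Group := e.symm.toMonoidHom.comp ((permFix hG S).codRestrict θ.range hR)
  have hφ : ∀ x, θ (φ x) = permFix hG S x := by
    intro x
    have h1 : e (φ x) = (permFix hG S).codRestrict θ.range hR x := e.apply_symm_apply _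
    exact congrArg Subtype.val h1
  refine ⟨φ, ?_, ?_⟩
  · intro g
    obtain ⟨x, hx⟩ := hR2 g
    refine ⟨x, hinj ?_⟩
    rw [hφ, hx]
  · rw [← permFix_ker]
    ext x
    rw [MonoidHom.mem_ker, MonoidHom.mem_ker, ← hφ]
    constructor
    · intro h
      rw [h, map_one]
    · intro h
      exact hinj (by rw [h, map_one])

end TwN

end

end Cfsg.Agent.Lib.Chev
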