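/-
The group ²G₂(q): the action of `H¹` on `U¹`, perfectness, the core of the Borel subgroup and simplicity.
-/
import Cfsg.Agent.Lib.Tw.ReeG2f
import Cfsg.Agent.Lib.Tw.Weyl
import Cfsg.Agent.Lib.Tw.Key

set_option autoImplicit false
set_option maxRecDepth 100000

namespace Cfsg.Agent.Lib.Chev

open Cfsg.Lie

section

variable {K : Type*} [Field K]

noncomputable abbrev chi8 : ↥(chevG2.diagonalSubgroup K) →* Kˣ := good3G2.toGood2.chi (r := 8) (by decide)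
noncomputable abbrev chi9 : ↥(chevG2.diagonalSubgroup K) →* Kˣ := good3G2.toGood2.chi (r := 9) (by decide)
noncomputable abbrev chi10 : ↥(chevG2.diagonalSubgroup K) →* Kˣ := good3G2.toGood2.chi (r := 10) (by decide)
noncomputable abbrev chi11 : ↥(chevG2.diagonalSubgroup K) →* Kˣ := good3G2.toGood2.chi (r := 11) (by decide)

/-- The conjugates of the normal form. -/
lemma conj_gg (z : ↥(chevG2.diagonalSubgroup K)) (α β γ δ ε ζ : K) :
    (z : GL chevG2.Idx K) * ggG2 α β γ δ ε ζ * (z : GL chevG2.Idx K)⁻¹ =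
      ggG2 (chi7 z * α) (chi6 z * β) (chi8 z * γ) (chi9 z * δ) (chi10 z * ε) (chi11 z * ζ) := by
  have hc : ∀ a b : GL chevG2.Idx K, (z : GL chevG2.Idx K) * (a * b) * (z : GL chevG2.Idx K)⁻¹ =
      ((z : GL chevG2.Idx K) * a * (z : GL chevG2.Idx K)⁻¹) * ((z : GL chevG2.Idx K) * b * (z : GL chevG2.Idx K)⁻¹) := by
    intro a b
    group
  rw [ggG2_eq_gW, ggG2_eq_gW]
  simp only [Tbl.Good2.gW_cons, Tbl.Good2.gW_nil, mul_one]
  rw [hc, good3G2.toGood2.chi_xN (r := 7) (by decide), hc, good3G2.toGood2.chi_xN (r := 6) (by decide), hc,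
    good3G2.toGood2.chi_xN (r := 8) (by decide), hc, good3G2.toGood2.chi_xN (r := 9) (by decide), hc,
    good3G2.toGood2.chi_xN (r := 10) (by decide), good3G2.toGood2.chi_xN (r := 11) (by decide)]

section Char

variable [CharP K 3]

lemma gg_ba (α β : K) : xG2 6 β * xG2 7 α = ggG2 α β (α * β) (α ^ 2 * β) (-(α ^ 3 * β)) (-(α ^ 3 * β ^ 2)) :=
  (g2Rel (K := K)).ba_zz α β

/-- The values on the positive roots in terms of the values on the simple roots. -/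
lemma chi_rel (z : ↥(chevG2.diagonalSubgroup K)) :
    (chi8 z : K) = chi7 z * chi6 z ∧ (chi9 z : K) = (chi7 z : K) ^ 2 * chi6 z ∧
      (chi10 z : K) = (chi7 z : K) ^ 3 * chi6 z ∧ (chi11 z : K) = (chi7 z : K) ^ 3 * (chi6 z : K) ^ 2 := by
  have h1 := conj_gg z 1 1 1 1 (-1) (-1)
  have h2 : ggG2 (1 : K) 1 1 1 (-1) (-1) = xG2 6 1 * xG2 7 1 := by
    rw [gg_ba]
    simp
  have h3 : (z : GL chevG2.Idx K) * (xG2 6 1 * xG2 7 1) * (z : GL chevG2.Idx K)⁻¹ = xG2 6 ((chi6 z : Kˣ) : K) * xG2 7 ((chi7 z : Kˣ) : K) := by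
    have e6 := good3G2.toGood2.chi_xN (r := 6) (by decide) z (1 : K)
    have e7 := good3G2.toGood2.chi_xN (r := 7) (by decide) z (1 : K)
    rw [mul_one] at e6 e7
    calc (z : GL chevG2.Idx K) * (xG2 6 1 * xG2 7 1) * (z : GL chevG2.Idx K)⁻¹
        = ((z : GL chevG2.Idx K) * xG2 6 1 * (z : GL chevG2.Idx K)⁻¹) * ((z : GL chevG2.Idx K) * xG2 7 1 * (z : GL chevG2.Idx K)⁻¹) := by group
      _ = _ := congrArg₂ (· * ·) e6 e7
  rw [h2, h3, gg_ba] at h1
  obtain ⟨_, _, a, b, c, d⟩ := ggG2_inj h1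
  simp only [mul_one, mul_neg, neg_inj] at a b c d
  exact ⟨a.symm, b.symm, c.symm, d.symm⟩

lemma cube_inj {a b : K} (h : a ^ 3 = b ^ 3) : a = b := by
  have h1 : (a - b) ^ 3 = 0 := by
    have h2 := add_cube (a - b) b
    rw [sub_add_cancel, h] at h2
    simpa using h2.symm
  exact sub_eq_zero.1 (pow_eq_zero_iff (by norm_num) |>.1 h1)

variable (hperf : ∀ x : K, ∃ y : K, y ^ 3 = x) (φ : K ≃+* K)

/-- The relation between the simple values of a fixed element of `H`. -/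
lemma chi6_fix {z : ↥(chevG2.diagonalSubgroup K)} (hz : (z : GL chevG2.Idx K) ∈ (twG2 hperf φ).fix) :
    (chi6 z : K) = φ ((chi7 z : K) ^ 3) := by
  have h1 := (twG2 hperf φ).chi_tw hz (r := 7) (by decide) 1
  rw [twG2_f, twG2_f, show excG2.exp 7 = 3 by decide +kernel,
    good3G2.toGood2.chi_congr _ (show 6 < chevG2.nroots by decide) (show (twG2 hperf φ).τ 7 = 6 from tauG2.1)] at h1
  simpa [map_pow] using h1

/-- The action on the fixed points of `U`. -/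
theorem conj_reeU (hφ : ∀ x, φ (φ (x ^ 3)) = x) {z : ↥(chevG2.diagonalSubgroup K)} (hz : (z : GL chevG2.Idx K) ∈ (twG2 hperf φ).fix) (t u v : K) :
    (z : GL chevG2.Idx K) * reeU φ t u v * (z : GL chevG2.Idx K)⁻¹ = reeU φ (chi6 z * t) (chi10 z * u) (chi11 z * v) := by
  have hU : (z : GL chevG2.Idx K) * reeU φ t u v * (z : GL chevG2.Idx K)⁻¹ ∈ chevG2.posUnipotent K := by
    unfold reeU
    rw [conj_gg, U_eq_ggSub]
    exact ⟨_, _, _, _, _, _, rfl⟩
  have hf : (z : GL chevG2.Idx K) * reeU φ t u v * (z : GL chevG2.Idx K)⁻¹ ∈ (twG2 hperf φ).fix :=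
    Subgroup.mul_mem _ (Subgroup.mul_mem _ hz (reeU_fix hperf φ hφ t u v)) (Subgroup.inv_mem _ hz)
  obtain ⟨t', u', v', e⟩ := (mem_U_fix_iff hperf φ hφ).1 ⟨hU, hf⟩
  rw [e]
  have e2 := e
  unfold reeU at e2
  rw [conj_gg] at e2
  obtain ⟨_, a, _, _, b, c⟩ := ggG2_inj e2
  rw [← a, ← b, ← c]

include hperf in
/-- The multiplication of the fixed points of `U`. -/
theorem reeU_mul (hφ : ∀ x, φ (φ (x ^ 3)) = x) (t u v t' u' v' : K) :
    reeU φ t u v * reeU φ t' u' v' = reeU φ (t + t') (-((φ t') ^ 3 * t) + u + u')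
      (-((φ t') ^ 3 * t ^ 2) + v - t' * (-((φ t') ^ 3 * t) + u) + v') := by
  obtain ⟨a, b, c, e⟩ := (mem_U_fix_iff hperf φ hφ).1
    ⟨Subgroup.mul_mem _ (reeU_mem_U φ t u v) (reeU_mem_U φ t' u' v'),
      Subgroup.mul_mem _ (reeU_fix hperf φ hφ t u v) (reeU_fix hperf φ hφ t' u' v')⟩
  rw [e]
  have e2 := e
  unfold reeU at e2
  rw [(g2Rel (K := K)).gg_mul] at e2
  obtain ⟨_, a1, _, _, b1, c1⟩ := ggG2_inj e2
  rw [← a1, ← b1, ← c1]

/-- The nontriviality of the values at an element with a good value on `a`. -/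
theorem chi_ne (hφ : ∀ x, φ (φ (x ^ 3)) = x) {z : ↥(chevG2.diagonalSubgroup K)} (hz : (z : GL chevG2.Idx K) ∈ (twG2 hperf φ).fix)
    (hs : (chi7 z : K) ^ 2 ≠ 1) : (chi6 z : K) ≠ 1 ∧ (chi10 z : K) ≠ 1 ∧ (chi11 z : K) ≠ 1 := by
  obtain ⟨-, -, h10, h11⟩ := chi_rel z
  have h6 := chi6_fix hperf φ hz
  rw [h10, h11, h6]
  set s : K := ((chi7 z : Kˣ) : K) with hsd
  set w : K := s ^ 3 with hw
  have hs0 : s ≠ 0 := Units.ne_zero _
  have hw0 : w ≠ 0 := pow_ne_zero _ hs0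
  have hcube : ∀ x : K, (φ (φ x)) ^ 3 = x := fun x => by
    rw [← map_pow, ← map_pow]
    exact hφ x
  have hw1 : w ≠ 1 := by
    intro h
    have h1 : s = 1 := cube_inj (by rw [← hw, h, one_pow])
    exact hs (by rw [h1, one_pow])
  have hy1 : φ w ≠ 1 := fun h => hw1 ((map_eq_one_iff φ φ.injective).1 h)
  have hy0 : φ w ≠ 0 := (map_ne_zero φ).2 hw0
  refine ⟨hy1, ?_, ?_⟩
  · intro h
    have h1 : φ w * φ (φ w) = 1 := by
      rw [← map_mul, h, map_one]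
    have h2 : φ (φ w) = w := by
      have h3 : φ w * φ (φ w) = φ w * w := by
        rw [h1, mul_comm, h]
      exact mul_left_cancel₀ hy0 h3
    have h4 := hcube w
    rw [h2] at h4
    have h5 : w ^ 2 = 1 := by
      have h6 : w * w ^ 2 = w * 1 := by
        rw [mul_one, ← pow_succ', h4]
      exact mul_left_cancel₀ hw0 h6
    apply hs
    apply cube_inj
    rw [one_pow, ← pow_mul, mul_comm, pow_mul, ← hw, h5]
  · intro h
    have h1 : φ w * (φ (φ w)) ^ 2 = 1 := by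
      have : φ (w * φ w ^ 2) = φ 1 := congrArg φ h
      rw [map_mul φ w, map_pow φ (φ w), map_one] at this
      exact this
    have h2 : (φ w) ^ 3 * ((φ (φ w)) ^ 3) ^ 2 = 1 := by
      have := congrArg (fun x => x ^ 3) h1
      simp only [mul_pow, one_pow] at this
      rw [← this]
      ring
    rw [hcube w] at h2
    have h3 : (φ w) ^ 4 * w ^ 2 = 1 := by
      have := congrArg (fun x => x ^ 2) h
      simp only [mul_pow, one_pow] at this
      rw [← this]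
      ring
    have h4 : φ w = 1 := by
      calc φ w = φ w * ((φ w) ^ 3 * w ^ 2) := by
            rw [h2, mul_one]
        _ = (φ w) ^ 4 * w ^ 2 := by ring
        _ = 1 := h3
    exact hy1 h4

/-- The fixed points lie in any subgroup containing the words. -/
theorem fix_le_G2 (hφ : ∀ x, φ (φ (x ^ 3)) = x) (hsq : ∀ s : K, s ≠ 0 → ∃ r : K, r ≠ 0 ∧ (s = r ^ 2 ∨ s = -r ^ 2))
    {G1 : Subgroup (GL chevG2.Idx K)} (hG1 : G1 ≤ (twG2 hperf φ).fix)
    (hU : ∀ t u v, reeU φ t u v ∈ G1) (hV : ∀ t u v, reeV φ t u v ∈ G1) : (twG2 hperf φ).fix ≤ G1 := by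
  refine (twnG2 hperf φ hφ).fix_le chainG2' ?_ ?_ (H_fix_le hperf φ hφ hsq hG1 hU hV)
  · rintro j hj x ⟨hx, hf⟩
    have hx' : x ∈ chevG2.posUnipotent K := (XJ_G2 (K := K) hj).le hx
    obtain ⟨t, u, v, rfl⟩ := (mem_U_fix_iff hperf φ hφ).1 ⟨hx', hf⟩
    exact hU t u v
  · intro j _
    show n0G2 ∈ _
    rw [← nnG2_one_eq φ]
    exact Subgroup.mul_mem _ (Subgroup.mul_mem _ (hU _ _ _) (hV _ _ _)) (hU _ _ _)

open scoped commutatorElement in
/-- Perfectness. -/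
theorem perfectG2 (hφ : ∀ x, φ (φ (x ^ 3)) = x) (hsq : ∀ s : K, s ≠ 0 → ∃ r : K, r ≠ 0 ∧ (s = r ^ 2 ∨ s = -r ^ 2))
    {s : K} (hs0 : s ≠ 0) (hs1 : s ^ 2 ≠ 1) : commutator ↥(twG2 hperf φ).fix = ⊤ := by
  set G := (twG2 hperf φ).fix with hG
  set M : Subgroup (GL chevG2.Idx K) := (commutator ↥G).map G.subtype with hM
  have hMG : M ≤ G := by
    rintro _ ⟨x, _, rfl⟩
    exact x.2
  have hmem : ∀ g (hg : g ∈ G), (⟨g, hg⟩ : ↥G) ∈ commutator ↥G → g ∈ M := fun g hg h => ⟨⟨g, hg⟩, h, rfl⟩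
  obtain ⟨z0, hz0⟩ := (chiFix_bij hperf φ hφ hsq).2 (Units.mk0 s hs0)
  have hz : (z0.1 : GL chevG2.Idx K) ∈ G := z0.2.2
  let z : ↥(chevG2.diagonalSubgroup K) := ⟨z0.1, z0.2.1⟩
  have hzs : (chi7 z : K) = s := by
    have := congrArg Units.val hz0
    rw [chiFix_apply] at this
    simpa using this
  obtain ⟨h6, h10, h11⟩ := chi_ne hperf φ hφ (z := z) hz (by rw [hzs]; exact hs1)
  have hcomm : ∀ a, a ∈ G → (z0.1 : GL chevG2.Idx K) * a * (z0.1 : GL chevG2.Idx K)⁻¹ * a⁻¹ ∈ M := by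
    intro a ha
    refine hmem _ (Subgroup.mul_mem _ (Subgroup.mul_mem _ (Subgroup.mul_mem _ hz ha) (Subgroup.inv_mem _ hz)) (Subgroup.inv_mem _ ha)) ?_
    have e : (⟨(z0.1 : GL chevG2.Idx K) * a * (z0.1 : GL chevG2.Idx K)⁻¹ * a⁻¹, Subgroup.mul_mem _ (Subgroup.mul_mem _ (Subgroup.mul_mem _ hz ha) (Subgroup.inv_mem _ hz)) (Subgroup.inv_mem _ ha)⟩ : ↥G) =
        ⁅(⟨z0.1, hz⟩ : ↥G), (⟨a, ha⟩ : ↥G)⁆ := by
      apply Subtype.ext
      rfl
    rw [e]
    exact Subgroup.commutator_mem_commutator (Subgroup.mem_top _) (Subgroup.mem_top _)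
  have hconj := fun t u v => conj_reeU hperf φ hφ (z := z) hz t u v
  -- the second layer
  have hU2 : ∀ u v, reeU φ 0 u v ∈ M := by
    intro u v
    have h1 : (chi10 z : K) - 1 ≠ 0 := sub_ne_zero.2 h10
    have h2 : (chi11 z : K) - 1 ≠ 0 := sub_ne_zero.2 h11
    have h3 := hcomm _ (reeU_fix hperf φ hφ 0 (u / ((chi10 z : K) - 1)) (v / ((chi11 z : K) - 1)))
    have h0 : reeU φ 0 u v * reeU φ 0 (u / ((chi10 z : K) - 1)) (v / ((chi11 z : K) - 1)) =
        reeU φ 0 ((chi10 z : K) * (u / ((chi10 z : K) - 1))) ((chi11 z : K) * (v / ((chi11 z : K) - 1))) := by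
      rw [reeU_mul hperf φ hφ]
      simp only [map_zero, ne_eq, OfNat.ofNat_ne_zero, not_false_eq_true, zero_pow, zero_mul, neg_zero, zero_add, mul_zero, sub_zero, add_zero]
      congr 1
      · field_simp
        ring
      · field_simp
        ring
    have e := hconj 0 (u / ((chi10 z : K) - 1)) (v / ((chi11 z : K) - 1))
    rw [mul_zero] at e
    have e3 : reeU φ 0 u v = (z : GL chevG2.Idx K) * reeU φ 0 (u / ((chi10 z : K) - 1)) (v / ((chi11 z : K) - 1)) * (z : GL chevG2.Idx K)⁻¹ *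
        (reeU φ 0 (u / ((chi10 z : K) - 1)) (v / ((chi11 z : K) - 1)))⁻¹ := by
      rw [e, ← h0]
      group
    rw [e3]
    exact h3
  -- the first layer
  have hU : ∀ t u v, reeU φ t u v ∈ M := by
    intro t u v
    have h1 : (chi6 z : K) - 1 ≠ 0 := sub_ne_zero.2 h6
    set t0 := t / ((chi6 z : K) - 1) with ht0
    have h3 := hcomm _ (reeU_fix hperf φ hφ t0 0 0)
    have hmemU : (z : GL chevG2.Idx K) * reeU φ t0 0 0 * (z : GL chevG2.Idx K)⁻¹ * (reeU φ t0 0 0)⁻¹ ∈ chevG2.posUnipotent K ⊓ (twG2 hperf φ).fix := by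
      refine ⟨?_, hMG h3⟩
      rw [hconj]
      exact Subgroup.mul_mem _ (reeU_mem_U φ _ _ _) (Subgroup.inv_mem _ (reeU_mem_U φ _ _ _))
    obtain ⟨t1, u1, v1, e1⟩ := (mem_U_fix_iff hperf φ hφ).1 hmemU
    have e2 : reeU φ t1 u1 v1 * reeU φ t0 0 0 = reeU φ ((chi6 z : K) * t0) 0 0 := by
      rw [← e1, inv_mul_cancel_right, hconj]
      simp
    rw [reeU_mul hperf φ hφ] at e2
    have e3 := (reeU_inj φ e2).1
    have e4 : t1 = t := by
      have : t1 = ((chi6 z : K) - 1) * t0 := by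
        rw [sub_mul, one_mul, ← e3]
        ring
      rw [this, ht0]
      field_simp
    have h4 : reeU φ t1 u1 v1 ∈ M := e1 ▸ h3
    have e5 : reeU φ t u v = reeU φ t1 u1 v1 * reeU φ 0 (u - u1) (v - v1) := by
      rw [reeU_mul hperf φ hφ, e4]
      simp
    rw [e5]
    exact Subgroup.mul_mem _ h4 (hU2 _ _)
  have hn : n0G2 ∈ G := n0G2_fix hperf φ hφ
  have hV : ∀ t u v, reeV φ t u v ∈ M := by
    intro t u v
    obtain ⟨c, hc, e⟩ := hU t u v
    refine ⟨⟨n0G2, hn⟩ * c * ⟨n0G2, hn⟩⁻¹, (inferInstance : (commutator ↥G).Normal).conj_mem _ hc _, ?_⟩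
    show n0G2 * c.1 * n0G2⁻¹ = _
    have e' : c.1 = reeU φ t u v := e
    rw [e']
    rfl
  have hle := fix_le_G2 hperf φ hφ hsq hMG hU hV
  rw [eq_top_iff]
  intro g _
  obtain ⟨c, hc, e⟩ := hle g.2
  have : c = g := Subtype.ext e
  rwa [← this]

end Char

end

end Cfsg.Agent.Lib.Chev
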