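/-
The group ²G₂(q): the core of the Borel subgroup, simplicity and the quotient `N¹/H¹`.
-/
import Cfsg.Agent.Lib.Tw.ReeG2g

set_option autoImplicit false
set_option maxRecDepth 100000

namespace Cfsg.Agent.Lib.Chev

open Cfsg.Lie

section

variable {K : Type*} [Field K] [CharP K 3]

/-- The representative as an element of `N`. -/
noncomputable def m0G2 : ↥(chevG2.monomialSubgroup K) := ⟨n0G2, good3G2.toGood2.nProd_mem_N (by decide)⟩

omit [CharP K 3] in
lemma m0G2_perm (r : Fin chevG2.nroots) : (good3G2.toGood2.permN (m0G2 (K := K)) r : ℕ) = wperm digG2.tbl [0, 1, 0, 1, 0, 1] r :=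
  good3G2.toGood2.permN_nProd (by decide) r

theorem wperm_n0 : ∀ r, r < chevG2.nroots → chevG2.nroots / 2 ≤ r → wperm digG2.tbl [0, 1, 0, 1, 0, 1] r < chevG2.nroots / 2 := by
  decide +kernel

theorem wperm_n0_neg : ∀ r, r < chevG2.nroots → wperm digG2.tbl [0, 1, 0, 1, 0, 1] r = chevG2.neg r := by
  decide +kernel

variable (hperf : ∀ x : K, ∃ y : K, y ^ 3 = x) (φ : K ≃+* K)

/-- An element of `U` outside the subgroups `U_i`. -/
lemma reeU_not_mem_Ui {i : ℕ} (hi : i < chevG2.rank) : reeU φ 1 0 0 ∉ Ui chevG2 K i := by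
  have hi' : i < 2 := hi
  intro h
  unfold reeU at h
  interval_cases i
  · rw [ggG2_eq_gW, Tbl.Good2.gW_cons] at h
    have h2 : good3G2.toGood2.gW [(6, (1 : K)), (8, φ 1 * 1 + φ 0), (9, (φ 1) ^ 2 * 1 + φ 0), (10, 0), (11, 0)] ∈ Ui chevG2 K 0 := by
      refine good3G2.toGood2.gW_mem_Ui fun e he => ?_
      have h3 : ∀ e ∈ [6, 8, 9, 10, 11], e < chevG2.nroots ∧ chevG2.nroots / 2 ≤ e ∧ e ≠ chevG2.simple 0 := by decide
      simp only [List.mem_cons, List.not_mem_nil, or_false] at he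
      rcases he with rfl | rfl | rfl | rfl | rfl <;> exact h3 _ (by simp)
    have h4 := Subgroup.mul_mem _ h (Subgroup.inv_mem _ h2)
    rw [mul_inv_cancel_right] at h4
    have h5 : xG2 7 (φ 1) = good3G2.toGood2.xU (good3G2.toGood2.simple_lt (show 0 < chevG2.rank by decide)) (φ 1) :=
      good3G2.toGood2.xN_of_lt _ _
    have h4' : xG2 7 (φ 1) ∈ Ui chevG2 K 0 := h4
    rw [h5] at h4'
    have h6 : φ 1 = 0 := good3G2.toGood2.xp_mem_Ui (show 0 < chevG2.rank by decide) h4'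
    simp at h6
  · rw [ggG2_nf, Tbl.Good2.gW_cons] at h
    set w := [(7, φ (1 : K)), (8, φ 1 * 1 + φ 0 - φ 1 * 1), (9, (φ 1) ^ 2 * 1 + φ 0 - (φ 1) ^ 2 * 1), (10, 0 + (φ 1) ^ 3 * 1), (11, 0 + (φ 1) ^ 3 * 1 ^ 2)] with hw
    have h2 : good3G2.toGood2.gW w ∈ Ui chevG2 K 1 := by
      refine good3G2.toGood2.gW_mem_Ui fun e he => ?_
      have h3 : ∀ e ∈ [7, 8, 9, 10, 11], e < chevG2.nroots ∧ chevG2.nroots / 2 ≤ e ∧ e ≠ chevG2.simple 1 := by decide
      simp only [hw, List.mem_cons, List.not_mem_nil, or_false] at he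
      rcases he with rfl | rfl | rfl | rfl | rfl <;> exact h3 _ (by simp)
    have h4 := Subgroup.mul_mem _ h (Subgroup.inv_mem _ h2)
    rw [mul_inv_cancel_right] at h4
    have h5 : xG2 6 (1 : K) = good3G2.toGood2.xU (good3G2.toGood2.simple_lt (show 1 < chevG2.rank by decide)) 1 :=
      good3G2.toGood2.xN_of_lt _ _
    have h4' : xG2 6 (1 : K) ∈ Ui chevG2 K 1 := h4
    rw [h5] at h4'
    have h6 : (1 : K) = 0 := good3G2.toGood2.xp_mem_Ui (show 1 < chevG2.rank by decide) h4'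
    simp at h6

/-- The core of the Borel subgroup. -/
theorem coreG2 (hφ : ∀ x, φ (φ (x ^ 3)) = x) : ((chevG2.borelSubgroup K).subgroupOf (twG2 hperf φ).fix).normalCore = ⊥ := by
  refine (twnG2 hperf φ hφ).core_trivial m0G2 (n0G2_fix hperf φ hφ) (fun r hr => ?_) (fun i hi => ?_)
  · rw [m0G2_perm]
    exact wperm_n0 r r.2 hr
  · exact ⟨reeU φ 1 0 0, reeU_mem_U φ 1 0 0, reeU_fix hperf φ hφ 1 0 0, reeU_not_mem_Ui φ hi⟩

/-- Simplicity. -/
theorem simpleG2 (hφ : ∀ x, φ (φ (x ^ 3)) = x) (hsq : ∀ s : K, s ≠ 0 → ∃ r : K, r ≠ 0 ∧ (s = r ^ 2 ∨ s = -r ^ 2))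
    {s : K} (hs0 : s ≠ 0) (hs1 : s ^ 2 ≠ 1) : IsSimpleGroup ↥(twG2 hperf φ).fix ∧ ¬ IsMulCommutative ↥(twG2 hperf φ).fix := by
  refine (twnG2 hperf φ hφ).simple ?_ (perfectG2 hperf φ hφ hsq hs0 hs1) (coreG2 hperf φ hφ) (show 0 < 1 by decide)
  intro j hj
  have hj' : j + 1 < 1 := hj
  omega

/-- The quotient of `N¹` by `H¹`. -/
theorem nQuotG2 (hφ : ∀ x, φ (φ (x ^ 3)) = x) :
    ∃ f : ↥(chevG2.monomialSubgroup K ⊓ (twG2 hperf φ).fix) →* Multiplicative (ZMod 2), Function.Surjective f ∧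
      f.ker = (chevG2.diagonalSubgroup K ⊓ (twG2 hperf φ).fix).subgroupOf (chevG2.monomialSubgroup K ⊓ (twG2 hperf φ).fix) := by
  classical
  set A := twnG2 hperf φ hφ with hA
  set w : Equiv.Perm (Fin chevG2.nroots) := good3G2.toGood2.permN (m0G2 (K := K)) with hw
  have hw2 : w * w = 1 := by
    ext r
    rw [Equiv.Perm.mul_apply, hw, m0G2_perm, m0G2_perm]
    exact orbG2.invol 0 (by decide) r r.2
  have hw1 : w ≠ 1 := by
    intro h
    have h1 := DFunLike.congr_fun h ⟨6, by decide⟩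
    have h2 := congrArg Fin.val h1
    rw [hw, m0G2_perm] at h2
    revert h2
    decide +kernel
  let P := TwN.permFix good3G2.toGood2 (twG2 hperf φ)
  have hP : ∀ x, P x = 1 ∨ P x = w := by
    intro x
    let R : Subgroup (Equiv.Perm (Fin chevG2.nroots)) :=
      { carrier := {g | g = 1 ∨ g = w}
        one_mem' := Or.inl rfl
        mul_mem' := by
          rintro a b (rfl | rfl) (rfl | rfl)
          · exact Or.inl (one_mul _)
          · exact Or.inr (one_mul _)
          · exact Or.inr (mul_one _)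
          · exact Or.inl hw2
        inv_mem' := by
          rintro a (rfl | rfl)
          · exact Or.inl inv_one
          · exact Or.inr (inv_eq_of_mul_eq_one_right hw2) }
    have hs : ∀ j (hj : j < orbG2.m), good3G2.toGood2.permN (A.s j hj) ∈ R := by
      intro j hj
      have hj' : j < 1 := hj
      obtain rfl : j = 0 := by omega
      exact Or.inr rfl
    exact A.permFix_mem hs x
  let a : Multiplicative (ZMod 2) := Multiplicative.ofAdd 1
  have ha : a * a = 1 := by decide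
  have ha1 : a ≠ 1 := by decide
  let f : ↥(chevG2.monomialSubgroup K ⊓ (twG2 hperf φ).fix) →* Multiplicative (ZMod 2) :=
    MonoidHom.mk' (fun x => if P x = 1 then 1 else a) (by
      intro x y
      rw [map_mul]
      rcases hP x with hx | hx <;> rcases hP y with hy | hy <;> simp [hx, hy, hw1, hw2, ha])
  have hf : ∀ x, f x = if P x = 1 then 1 else a := fun _ => rfl
  refine ⟨f, ?_, ?_⟩
  · have hn : f (A.sF' 0 (show 0 < 1 by decide)) = a := by
      rw [hf]
      have : P (A.sF' 0 (show 0 < 1 by decide)) = w := rfl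
      rw [this, if_neg hw1]
    intro y
    have hy : y = 1 ∨ y = a := by
      revert y
      decide
    rcases hy with rfl | rfl
    · exact ⟨1, map_one _⟩
    · exact ⟨_, hn⟩
  · rw [← TwN.permFix_ker (hG := good3G2.toGood2)]
    ext x
    rw [MonoidHom.mem_ker, MonoidHom.mem_ker, hf]
    by_cases h : P x = 1
    · simp [h]
      exact h
    · simp [h, ha1]
      exact h

end

section

variable {K : Type*} [Field K] [Fintype K] {m : ℕ}

omit [Field K] in
lemma card_gt_three (hm : 1 ≤ m) (hK : Fintype.card K = 3 ^ (2 * m + 1)) : 3 < Fintype.card K := by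
  rw [hK]
  calc 3 < 3 ^ 3 := by norm_num
    _ ≤ 3 ^ (2 * m + 1) := Nat.pow_le_pow_right (by norm_num) (by omega)

lemma exists_sq_ne (hm : 1 ≤ m) (hK : Fintype.card K = 3 ^ (2 * m + 1)) : ∃ s : K, s ≠ 0 ∧ s ^ 2 ≠ 1 := by
  obtain ⟨c, h0, h1⟩ := exists_sq_ne_one (card_gt_three hm hK)
  exact ⟨c, h0, by rwa [pow_two]⟩

end

end Cfsg.Agent.Lib.Chev
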