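/-
The group ²G₂(q): elements of order three in `U¹`, elements of odd order in `H¹`.
-/
import Cfsg.Agent.Lib.Tw.ReeG2h

set_option autoImplicit false
set_option maxRecDepth 100000

namespace Cfsg.Agent.Lib.Chev

open Cfsg.Lie

section

variable {K : Type*} [Field K] [CharP K 3] (hperf : ∀ x : K, ∃ y : K, y ^ 3 = x) (φ : K ≃+* K)

omit [CharP K 3] in
lemma three_eq_zero [CharP K 3] : (3 : K) = 0 := by
  exact_mod_cast CharP.cast_eq_zero K 3

omit [CharP K 3] in
lemma reeU_zero : reeU φ (0 : K) 0 0 = 1 := by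
  rw [reeU_zero_u]
  simp [Tbl.Good2.xN_zero]

lemma reeU_eq_one_iff {t u v : K} : reeU φ t u v = 1 ↔ t = 0 ∧ u = 0 ∧ v = 0 := by
  constructor
  · intro h
    exact reeU_inj φ (h.trans (reeU_zero φ).symm)
  · rintro ⟨rfl, rfl, rfl⟩
    exact reeU_zero φ

include hperf in
/-- The cube of an element of `U¹`. -/
theorem reeU_cube (hφ : ∀ x, φ (φ (x ^ 3)) = x) (t u v : K) :
    reeU φ t u v ^ 3 = reeU φ 0 0 (-((φ t) ^ 3 * t ^ 2)) := by
  have h3 := three_eq_zero (K := K)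
  rw [pow_succ, pow_two, reeU_mul hperf φ hφ, reeU_mul hperf φ hφ]
  congr 1
  · linear_combination t * h3
  · linear_combination (u - (φ t) ^ 3 * t) * h3
  · linear_combination (v - t * u) * h3

include hperf in
/-- The elements of order three of `U¹`. -/
theorem order_three_iff (hφ : ∀ x, φ (φ (x ^ 3)) = x) (t u v : K) :
    orderOf (reeU φ t u v) = 3 ↔ t = 0 ∧ (u ≠ 0 ∨ v ≠ 0) := by
  haveI : Fact (Nat.Prime 3) := ⟨Nat.prime_three⟩
  constructor
  · intro h
    have h1 : reeU φ t u v ^ 3 = 1 := by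
      rw [← h]
      exact pow_orderOf_eq_one _
    rw [reeU_cube hperf φ hφ, reeU_eq_one_iff] at h1
    have h2 : t = 0 := by
      obtain ⟨_, _, h3⟩ := h1
      rw [neg_eq_zero] at h3
      by_contra ht
      have ht' : φ t ≠ 0 := (map_ne_zero φ).2 ht
      exact mul_ne_zero (pow_ne_zero _ ht') (pow_ne_zero _ ht) h3
    refine ⟨h2, ?_⟩
    by_contra hc
    push_neg at hc
    have h4 : reeU φ t u v = 1 := (reeU_eq_one_iff φ).2 ⟨h2, hc.1, hc.2⟩
    rw [h4, orderOf_one] at h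
    omega
  · rintro ⟨rfl, h⟩
    refine orderOf_eq_prime ?_ ?_
    · rw [reeU_cube hperf φ hφ, reeU_eq_one_iff]
      simp
    · intro h1
      obtain ⟨_, a, b⟩ := (reeU_eq_one_iff φ).1 h1
      rcases h with h | h
      · exact h a
      · exact h b

/-- The count of the elements of order three of `U¹`. -/
theorem card_order_three (hφ : ∀ x, φ (φ (x ^ 3)) = x) [Finite K] :
    Nat.card {u : ↥(chevG2.posUnipotent K ⊓ (twG2 hperf φ).fix) // orderOf u = 3} = Nat.card K ^ 2 - 1 := by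
  classical
  haveI := Fintype.ofFinite K
  let f : {p : K × K // p ≠ 0} → {u : ↥(chevG2.posUnipotent K ⊓ (twG2 hperf φ).fix) // orderOf u = 3} := fun p =>
    ⟨⟨reeU φ 0 p.1.1 p.1.2, (mem_U_fix_iff hperf φ hφ).2 ⟨_, _, _, rfl⟩⟩, by
      rw [Subgroup.orderOf_mk]
      refine (order_three_iff hperf φ hφ _ _ _).2 ⟨rfl, ?_⟩
      by_contra hc
      push_neg at hc
      exact p.2 (Prod.ext hc.1 hc.2)⟩
  have hf : Function.Bijective f := by
    constructor
    · rintro ⟨⟨a, b⟩, h1⟩ ⟨⟨c, d⟩, h2⟩ e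
      have e1 : reeU φ 0 a b = reeU φ 0 c d := congrArg (fun x : ↥(chevG2.posUnipotent K ⊓ (twG2 hperf φ).fix) => x.1) (congrArg Subtype.val e)
      obtain ⟨_, e2, e3⟩ := reeU_inj φ e1
      subst e2 e3
      rfl
    · rintro ⟨⟨g, hg⟩, ho⟩
      obtain ⟨t, u, v, rfl⟩ := (mem_U_fix_iff hperf φ hφ).1 hg
      rw [Subgroup.orderOf_mk] at ho
      obtain ⟨rfl, h⟩ := (order_three_iff hperf φ hφ _ _ _).1 ho
      refine ⟨⟨(u, v), fun e => ?_⟩, rfl⟩
      have e1 : u = 0 := congrArg Prod.fst e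
      have e2 : v = 0 := congrArg Prod.snd e
      rcases h with h | h
      · exact h e1
      · exact h e2
  rw [← Nat.card_congr (Equiv.ofBijective f hf), Nat.card_eq_fintype_card, Fintype.card_subtype_compl, Fintype.card_prod, Nat.card_eq_fintype_card]
  simp [pow_two]

/-- Odd order in `H¹`: the statement on fixed points. -/
theorem odd_centralizer (hφ : ∀ x, φ (φ (x ^ 3)) = x) {h : GL chevG2.Idx K} (hh : h ∈ chevG2.diagonalSubgroup K ⊓ (twG2 hperf φ).fix)
    (h1 : h ≠ 1) (hodd : Odd (orderOf h)) :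
    (chevG2.posUnipotent K ⊓ (twG2 hperf φ).fix) ⊓ Subgroup.centralizer {h} = ⊥ := by
  let z : ↥(chevG2.diagonalSubgroup K) := ⟨h, hh.1⟩
  have hs : (chi7 z : K) ^ 2 ≠ 1 := by
    intro hs
    have e : z ^ 2 = 1 := by
      have e1 : chi7 (z ^ 2) = chi7 1 := by
        rw [map_pow, map_one]
        exact Units.ext (by simpa using hs)
      have hzz : (((z ^ 2 : ↥(chevG2.diagonalSubgroup K))) : GL chevG2.Idx K) ∈ (twG2 hperf φ).fix := by
        have : ((z ^ 2 : ↥(chevG2.diagonalSubgroup K)) : GL chevG2.Idx K) = h ^ 2 := rfl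
        rw [this]
        exact Subgroup.pow_mem _ hh.2 2
      exact eq_of_chi7 hperf φ hzz (Subgroup.one_mem _) e1
    have e2 : h ^ 2 = 1 := congrArg Subtype.val e
    have h3 : orderOf h ∣ 2 := orderOf_dvd_of_pow_eq_one e2
    have h4 : orderOf h = 1 := by
      have h5 := (Nat.dvd_prime Nat.prime_two).1 h3
      rcases h5 with h5 | h5
      · exact h5
      · rw [h5] at hodd
        exact absurd hodd (by decide)
    exact h1 (orderOf_eq_one_iff.1 h4)
  obtain ⟨h6, h10, h11⟩ := chi_ne hperf φ hφ (z := z) hh.2 hs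
  rw [eq_bot_iff]
  rintro g ⟨⟨hU, hf⟩, hc⟩
  obtain ⟨t, u, v, rfl⟩ := (mem_U_fix_iff hperf φ hφ).1 ⟨hU, hf⟩
  have hc' : h * reeU φ t u v * h⁻¹ = reeU φ t u v := by
    have := (Subgroup.mem_centralizer_iff.1 hc) h (by simp)
    rw [this]
    group
  have e := conj_reeU hperf φ hφ (z := z) hh.2 t u v
  have e' : reeU φ (chi6 z * t) (chi10 z * u) (chi11 z * v) = reeU φ t u v := e.symm.trans hc'
  obtain ⟨a, b, c⟩ := reeU_inj φ e'
  have key : ∀ {α x : K}, α ≠ 1 → α * x = x → x = 0 := by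
    intro α x hα hx
    have : (α - 1) * x = 0 := by rw [sub_mul, one_mul, hx, sub_self]
    rcases mul_eq_zero.1 this with h0 | h0
    · exact absurd (sub_eq_zero.1 h0) hα
    · exact h0
  rw [Subgroup.mem_bot, reeU_eq_one_iff]
  exact ⟨key h6 a, key h10 b, key h11 c⟩

end

section

variable {K : Type*} [Field K] [Fintype K] {m : ℕ}
variable [CharP K 3] (hperf : ∀ x : K, ∃ y : K, y ^ 3 = x) (φ : K ≃+* K)

/-- The count of the elements of odd order in `H¹`. -/
theorem card_odd (hK : Fintype.card K = 3 ^ (2 * m + 1)) (hφ : ∀ x, φ (φ (x ^ 3)) = x) :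
    2 * Nat.card {h : ↥(chevG2.diagonalSubgroup K ⊓ (twG2 hperf φ).fix) // Odd (orderOf h)} = 3 ^ (2 * m + 1) - 1 := by
  classical
  have hb := chiFix_bij hperf φ hφ (sq_or_neg_sq hK)
  let E : ↥(chevG2.diagonalSubgroup K ⊓ (twG2 hperf φ).fix) ≃* Kˣ := MulEquiv.ofBijective (chiFix hperf φ) hb
  have hc : Nat.card Kˣ = 3 ^ (2 * m + 1) - 1 := by
    rw [Nat.card_units, cardK_G2 hK]
  obtain ⟨n, hn⟩ : ∃ n, 3 ^ (2 * m + 1) - 1 = 2 * n := by
    have := mod_four_G2 m
    exact ⟨(3 ^ (2 * m + 1) - 1) / 2, by omega⟩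
  have hodd : Odd n := by
    have := mod_four_G2 m
    rw [Nat.odd_iff]
    omega
  have e0 : {h : ↥(chevG2.diagonalSubgroup K ⊓ (twG2 hperf φ).fix) // Odd (orderOf h)} ≃ {x : Kˣ // Odd (orderOf x)} :=
    E.toEquiv.subtypeEquiv fun h => by
      show _ ↔ Odd (orderOf (E h))
      rw [MulEquiv.orderOf_eq]
  have e : {x : Kˣ // Odd (orderOf x)} ≃ (powMonoidHom n : Kˣ →* Kˣ).ker := by
    refine Equiv.subtypeEquivRight fun h => ?_
    rw [MonoidHom.mem_ker, powMonoidHom_apply]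
    constructor
    · intro ho
      rw [← orderOf_dvd_iff_pow_eq_one]
      have h1 : orderOf h ∣ 2 * n := by
        rw [← hn, ← hc]
        exact orderOf_dvd_natCard h
      exact Nat.Coprime.dvd_of_dvd_mul_left (Nat.coprime_two_right.2 ho) h1
    · intro h1
      exact Odd.of_dvd_nat hodd (orderOf_dvd_of_pow_eq_one h1)
  rw [Nat.card_congr e0, Nat.card_congr e, IsCyclic.card_powMonoidHom_ker, hc, hn, Nat.gcd_eq_right (Dvd.intro_left 2 rfl)]

end

end Cfsg.Agent.Lib.Chev
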