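/-
The group ²G₂(q): the Bruhat decomposition, the Sylow 3-subgroups, the action on the cosets of the Borel subgroup.
-/
import Cfsg.Agent.Lib.Tw.ReeG2i

set_option autoImplicit false
set_option maxRecDepth 100000

namespace Cfsg.Agent.Lib.Chev

open Cfsg.Lie

section

variable {K : Type*} [Field K] [CharP K 3] (hperf : ∀ x : K, ∃ y : K, y ^ 3 = x) (φ : K ≃+* K)

omit [CharP K 3] in
lemma n0G2_mem_N : n0G2 (K := K) ∈ chevG2.monomialSubgroup K := good3G2.toGood2.nProd_mem_N (by decide)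

omit [CharP K 3] in
/-- The square of the permutation of the representative. -/
lemma m0G2_perm_sq : good3G2.toGood2.permN (m0G2 (K := K)) * good3G2.toGood2.permN (m0G2 (K := K)) = 1 := by
  ext r
  rw [Equiv.Perm.mul_apply, m0G2_perm, m0G2_perm]
  exact orbG2.invol 0 (by decide) r r.2

omit [CharP K 3] in
lemma m0G2_perm_ne : good3G2.toGood2.permN (m0G2 (K := K)) ≠ 1 := by
  intro h
  have h1 := DFunLike.congr_fun h ⟨6, by decide⟩
  have h2 := congrArg Fin.val h1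
  rw [m0G2_perm] at h2
  revert h2
  decide +kernel

/-- The elements of `N` fixed by the automorphism. -/
theorem N_fix_cases (hφ : ∀ x, φ (φ (x ^ 3)) = x) {m : GL chevG2.Idx K} (hm : m ∈ chevG2.monomialSubgroup K) (hmf : m ∈ (twG2 hperf φ).fix) :
    m ∈ chevG2.diagonalSubgroup K ∨ ∃ h ∈ chevG2.diagonalSubgroup K, h ∈ (twG2 hperf φ).fix ∧ m = h * n0G2 := by
  set A := twnG2 hperf φ hφ with hA
  set w := good3G2.toGood2.permN (m0G2 (K := K)) with hw
  let R : Subgroup (Equiv.Perm (Fin chevG2.nroots)) :=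
    { carrier := {g | g = 1 ∨ g = w}
      one_mem' := Or.inl rfl
      mul_mem' := by
        rintro a b (rfl | rfl) (rfl | rfl)
        · exact Or.inl (one_mul _)
        · exact Or.inr (one_mul _)
        · exact Or.inr (mul_one _)
        · exact Or.inl m0G2_perm_sq
      inv_mem' := by
        rintro a (rfl | rfl)
        · exact Or.inl inv_one
        · exact Or.inr (inv_eq_of_mul_eq_one_right m0G2_perm_sq) }
  have hs : ∀ j (hj : j < orbG2.m), good3G2.toGood2.permN (A.s j hj) ∈ R := by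
    intro j hj
    have hj' : j < 1 := hj
    obtain rfl : j = 0 := by omega
    exact Or.inr rfl
  have h1 := A.permFix_mem hs ⟨m, Subgroup.mem_inf.2 ⟨hm, hmf⟩⟩
  rcases h1 with h1 | h1
  · left
    exact good3G2.toGood2.mem_H_of_permN (n := ⟨m, hm⟩) h1
  · right
    have hn := n0G2_fix hperf φ hφ
    have h2 : TwN.permFix good3G2.toGood2 (twG2 hperf φ) (⟨m, Subgroup.mem_inf.2 ⟨hm, hmf⟩⟩ * (A.sF' 0 (show 0 < 1 by decide))⁻¹) = 1 := by
      rw [map_mul, map_inv, h1]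
      exact mul_inv_cancel _
    have h3 := (Subgroup.mem_inf.1 (⟨m, Subgroup.mem_inf.2 ⟨hm, hmf⟩⟩ * (A.sF' 0 (show 0 < 1 by decide))⁻¹ : ↥(chevG2.monomialSubgroup K ⊓ (twG2 hperf φ).fix)).2).1
    have h4 := good3G2.toGood2.mem_H_of_permN (n := ⟨_, h3⟩) h2
    refine ⟨m * n0G2⁻¹, h4, Subgroup.mul_mem _ hmf (Subgroup.inv_mem _ hn), ?_⟩
    rw [inv_mul_cancel_right]

/-- The Bruhat decomposition. -/
theorem fix_bruhat (hφ : ∀ x, φ (φ (x ^ 3)) = x) {g : GL chevG2.Idx K} (hg : g ∈ (twG2 hperf φ).fix) :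
    g ∈ chevG2.borelSubgroup K ∨ ∃ u ∈ chevG2.posUnipotent K ⊓ (twG2 hperf φ).fix, ∃ b ∈ chevG2.borelSubgroup K ⊓ (twG2 hperf φ).fix, g = u * n0G2 * b := by
  obtain ⟨a, ha, haf, m, hmf, c, hc, hcf, e⟩ := (twG2 hperf φ).fix_canon hg
  have hcU : c ∈ chevG2.posUnipotent K := Tbl.Good2.rootsGen_pos_le
    (fun r hr => (good3G2.toGood2.isPos_iff hr.1).2 hr.2.1) hc
  have hB : ∀ x ∈ chevG2.posUnipotent K, x ∈ chevG2.borelSubgroup K := fun x hx => Tbl.Good2.le_borel_U hx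
  have hB' : ∀ x ∈ chevG2.diagonalSubgroup K, x ∈ chevG2.borelSubgroup K := fun x hx => Tbl.Good2.le_borel_H hx
  rcases N_fix_cases hperf φ hφ m.2 hmf with h | ⟨h, hh, hhf, e2⟩
  · left
    rw [e]
    exact Subgroup.mul_mem _ (Subgroup.mul_mem _ (hB _ ha) (hB' _ h)) (hB _ hcU)
  · right
    have hn := n0G2_fix hperf φ hφ
    have hH := good3G2.toGood2.N_conj_H (Subgroup.inv_mem _ (n0G2_mem_N (K := K))) hh
    rw [inv_inv] at hH
    refine ⟨a, ⟨ha, haf⟩, n0G2⁻¹ * h * n0G2 * c, ⟨Subgroup.mul_mem _ (hB' _ hH) (hB _ hcU), ?_⟩, ?_⟩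
    · exact Subgroup.mul_mem _ (Subgroup.mul_mem _ (Subgroup.mul_mem _ (Subgroup.inv_mem _ hn) hhf) hn) hcf
    · rw [e, e2]
      group

omit [CharP K 3] in
/-- The representative maps `U` to `V`. -/
lemma n0_conj_U {x : GL chevG2.Idx K} (hx : x ∈ chevG2.posUnipotent K) : n0G2 * x * n0G2⁻¹ ∈ chevG2.negUnipotent K := by
  refine good3G2.toGood2.conj_rootsGen (m0G2 (K := K)) (P := chevG2.IsPosRoot) (Q := chevG2.IsNegRoot) (fun _ hr => hr.1)
    (fun r hr => (good3G2.toGood2.isNeg_iff (good3G2.toGood2.permN m0G2 r).2).2 ?_) hx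
  rw [m0G2_perm]
  exact wperm_n0 r r.2 ((good3G2.toGood2.isPos_iff r.2).1 hr)

omit [CharP K 3] in
/-- The inverse of the representative maps `U` to `V`. -/
lemma n0_inv_conj_U {x : GL chevG2.Idx K} (hx : x ∈ chevG2.posUnipotent K) : n0G2⁻¹ * x * n0G2 ∈ chevG2.negUnipotent K := by
  have h := good3G2.toGood2.conj_rootsGen ((m0G2 (K := K))⁻¹) (P := chevG2.IsPosRoot) (Q := chevG2.IsNegRoot) (fun _ hr => hr.1)
    (fun r hr => (good3G2.toGood2.isNeg_iff (good3G2.toGood2.permN m0G2⁻¹ r).2).2 (by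
      have e : good3G2.toGood2.permN (m0G2 (K := K))⁻¹ = good3G2.toGood2.permN (m0G2 (K := K)) := by
        rw [map_inv]
        exact inv_eq_of_mul_eq_one_right m0G2_perm_sq
      rw [e, m0G2_perm]
      exact wperm_n0 r r.2 ((good3G2.toGood2.isPos_iff r.2).1 hr))) hx
  have e2 : (((m0G2 (K := K))⁻¹ : ↥(chevG2.monomialSubgroup K)) : GL chevG2.Idx K) = n0G2⁻¹ := rfl
  rwa [e2, inv_inv] at h

omit [CharP K 3] in
lemma borel_normalizes {b x : GL chevG2.Idx K} (hb : b ∈ chevG2.borelSubgroup K) (hx : x ∈ chevG2.posUnipotent K) :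
    b * x * b⁻¹ ∈ chevG2.posUnipotent K := by
  have h : chevG2.borelSubgroup K ≤ Subgroup.normalizer (chevG2.posUnipotent K : Set (GL chevG2.Idx K)) :=
    sup_le Subgroup.le_normalizer good3G2.toGood2.H_le_normalizer_U
  exact (Subgroup.mem_normalizer_iff.1 (h hb) x).1 hx

omit [CharP K 3] in
/-- The intersection of `U` with a conjugate under the big cell. -/
theorem U_inter_big {x y u b : GL chevG2.Idx K} (hx : x ∈ chevG2.posUnipotent K) (hy : y ∈ chevG2.posUnipotent K)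
    (hu : u ∈ chevG2.posUnipotent K) (hb : b ∈ chevG2.borelSubgroup K)
    (e : x = (u * n0G2 * b) * y * (u * n0G2 * b)⁻¹) : x = 1 := by
  have h1 := borel_normalizes hb hy
  have h2 := n0_conj_U h1
  have hubB := Tbl.Good2.le_borel_U hu
  have h3 : u⁻¹ * x * u⁻¹⁻¹ ∈ chevG2.posUnipotent K := borel_normalizes (Subgroup.inv_mem _ hubB) hx
  have e2 : u⁻¹ * x * u⁻¹⁻¹ = n0G2 * (b * y * b⁻¹) * n0G2⁻¹ := by
    rw [e]
    group
  have h4 : u⁻¹ * x * u⁻¹⁻¹ ∈ chevG2.borelSubgroup K ⊓ chevG2.negUnipotent K :=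
    ⟨Tbl.Good2.le_borel_U h3, e2 ▸ h2⟩
  rw [good3G2.toGood2.borel_inf_V, Subgroup.mem_bot] at h4
  have e3 : x = u * (u⁻¹ * x * u⁻¹⁻¹) * u⁻¹ := by group
  rw [e3, h4]
  group

end

end Cfsg.Agent.Lib.Chev
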