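/-
The group ²G₂(q): the Sylow 3-subgroups meet trivially; the stabilisers of three points.
-/
import Cfsg.Agent.Lib.Tw.ReeG2j

set_option autoImplicit false
set_option maxRecDepth 100000

namespace Cfsg.Agent.Lib.Chev

open Cfsg.Lie
open scoped Pointwise

section

variable {K : Type*} [Field K] [CharP K 3] (hperf : ∀ x : K, ∃ y : K, y ^ 3 = x) (φ : K ≃+* K)

/-- The fixed points of `U` as a subgroup of the group. -/
noncomputable abbrev u1G2 : Subgroup ↥(twG2 hperf φ).fix := (chevG2.posUnipotent K).subgroupOf (twG2 hperf φ).fix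

lemma card_u1G2 : Nat.card ↥(u1G2 hperf φ) = Nat.card ↥(chevG2.posUnipotent K ⊓ (twG2 hperf φ).fix) := by
  refine Nat.card_congr
    { toFun := fun x => ⟨x.1.1, x.2, x.1.2⟩
      invFun := fun x => ⟨⟨x.1, x.2.2⟩, x.2.1⟩
      left_inv := fun _ => rfl
      right_inv := fun _ => rfl }

end

section

variable {K : Type*} [Field K] [Fintype K] {m : ℕ}
variable [CharP K 3] (hperf : ∀ x : K, ∃ y : K, y ^ 3 = x) (φ : K ≃+* K)

lemma not_dvd_index (hK : Fintype.card K = 3 ^ (2 * m + 1)) (hφ : ∀ x, φ (φ (x ^ 3)) = x) : ¬ 3 ∣ (u1G2 hperf φ).index := by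
  have h1 := Subgroup.card_mul_index (u1G2 hperf φ)
  rw [card_u1G2, cardUG2 hperf φ hφ, cardK_G2 hK, orderRee2G2 hperf φ hK hφ] at h1
  obtain ⟨k, hk⟩ : ∃ k, 3 ^ (2 * m + 1) = 3 * (k + 1) := ⟨3 ^ (2 * m) - 1, by
    have : 0 < 3 ^ (2 * m) := by positivity
    rw [pow_succ]
    omega⟩
  have hq : 0 < (3 ^ (2 * m + 1)) ^ 3 := by positivity
  have h2 : (u1G2 hperf φ).index = (3 ^ (2 * m + 1) - 1) * ((3 ^ (2 * m + 1)) ^ 3 + 1) := by
    apply Nat.eq_of_mul_eq_mul_left hq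
    rw [h1, mul_assoc]
  rw [h2, hk]
  intro h3
  rcases (Nat.prime_three.dvd_mul).1 h3 with h4 | h4
  · omega
  · have : (3 * (k + 1)) ^ 3 = 3 * (9 * (k + 1) ^ 3) := by ring
    rw [this] at h4
    omega

/-- The Sylow subgroup. -/
noncomputable def sylU (hK : Fintype.card K = 3 ^ (2 * m + 1)) (hφ : ∀ x, φ (φ (x ^ 3)) = x) : Sylow 3 ↥(twG2 hperf φ).fix :=
  haveI : Fact (Nat.Prime 3) := ⟨Nat.prime_three⟩
  (IsPGroup.of_card (p := 3) (n := (2 * m + 1) * 3) (by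
    rw [card_u1G2, cardUG2 hperf φ hφ, cardK_G2 hK, pow_mul])).toSylow (not_dvd_index hperf φ hK hφ)

lemma coe_sylU (hK : Fintype.card K = 3 ^ (2 * m + 1)) (hφ : ∀ x, φ (φ (x ^ 3)) = x) :
    ((sylU hperf φ hK hφ : Sylow 3 ↥(twG2 hperf φ).fix) : Subgroup ↥(twG2 hperf φ).fix) = u1G2 hperf φ := rfl

lemma mem_smul_sylU (hK : Fintype.card K = 3 ^ (2 * m + 1)) (hφ : ∀ x, φ (φ (x ^ 3)) = x) (a x : ↥(twG2 hperf φ).fix) :
    x ∈ ((a • sylU hperf φ hK hφ : Sylow 3 ↥(twG2 hperf φ).fix) : Subgroup ↥(twG2 hperf φ).fix) ↔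
      (a : GL chevG2.Idx K)⁻¹ * x * a ∈ chevG2.posUnipotent K := by
  rw [Sylow.coe_subgroup_smul, coe_sylU, Subgroup.mem_pointwise_smul_iff_inv_smul_mem, MulAut.smul_def, Subgroup.mem_subgroupOf,
    MulAut.conj_inv_apply]
  rfl

/-- Distinct Sylow 3-subgroups meet trivially. -/
theorem sylow_TI (hK : Fintype.card K = 3 ^ (2 * m + 1)) (hφ : ∀ x, φ (φ (x ^ 3)) = x) (P Q : Sylow 3 ↥(twG2 hperf φ).fix) (hPQ : P ≠ Q) :
    (P : Subgroup ↥(twG2 hperf φ).fix) ⊓ (Q : Subgroup ↥(twG2 hperf φ).fix) = ⊥ := by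
  haveI : Fact (Nat.Prime 3) := ⟨Nat.prime_three⟩
  obtain ⟨a, rfl⟩ := MulAction.exists_smul_eq ↥(twG2 hperf φ).fix (sylU hperf φ hK hφ) P
  obtain ⟨c, rfl⟩ := MulAction.exists_smul_eq ↥(twG2 hperf φ).fix (sylU hperf φ hK hφ) Q
  set g : ↥(twG2 hperf φ).fix := a⁻¹ * c with hg
  rcases fix_bruhat hperf φ hφ g.2 with hb | ⟨u, hu, b, hb, e⟩
  · exfalso
    apply hPQ
    have e0 : g • sylU hperf φ hK hφ = sylU hperf φ hK hφ := by
      apply Sylow.ext
      ext x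
      rw [mem_smul_sylU, coe_sylU, Subgroup.mem_subgroupOf]
      constructor
      · intro h
        have := borel_normalizes hb h
        have e2 : (g : GL chevG2.Idx K) * ((g : GL chevG2.Idx K)⁻¹ * x * g) * (g : GL chevG2.Idx K)⁻¹ = x := by group
        rwa [e2] at this
      · intro h
        have := borel_normalizes (Subgroup.inv_mem _ hb) h
        rwa [inv_inv] at this
    have e1 : c = a * g := by
      rw [hg]
      group
    rw [e1, mul_smul, e0]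
  · rw [eq_bot_iff]
    intro x hx
    obtain ⟨hx1, hx2⟩ := Subgroup.mem_inf.1 hx
    rw [mem_smul_sylU] at hx1 hx2
    have e2 : (a : GL chevG2.Idx K)⁻¹ * (x : GL chevG2.Idx K) * (a : GL chevG2.Idx K) = (u * n0G2 * b) * ((c : GL chevG2.Idx K)⁻¹ * (x : GL chevG2.Idx K) * (c : GL chevG2.Idx K)) * (u * n0G2 * b)⁻¹ := by
      rw [← e, hg]
      show _ = ((a : GL chevG2.Idx K)⁻¹ * (c : GL chevG2.Idx K)) * ((c : GL chevG2.Idx K)⁻¹ * (x : GL chevG2.Idx K) * (c : GL chevG2.Idx K)) * ((a : GL chevG2.Idx K)⁻¹ * (c : GL chevG2.Idx K))⁻¹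
      group
    have h1 := U_inter_big hx1 hx2 hu.1 hb.1 e2
    rw [Subgroup.mem_bot]
    apply Subtype.ext
    have e3 : (x : GL chevG2.Idx K) = (a : GL chevG2.Idx K) * ((a : GL chevG2.Idx K)⁻¹ * (x : GL chevG2.Idx K) * (a : GL chevG2.Idx K)) * (a : GL chevG2.Idx K)⁻¹ := by group
    rw [e3, h1]
    simp

/-- The same for a group equal to the fixed points. -/
theorem sylow_TI' (hK : Fintype.card K = 3 ^ (2 * m + 1)) (hφ : ∀ x, φ (φ (x ^ 3)) = x) {G1 : Subgroup (GL chevG2.Idx K)} (hG1 : G1 = (twG2 hperf φ).fix)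
    (P Q : Sylow 3 ↥G1) (hPQ : P ≠ Q) : (P : Subgroup ↥G1) ⊓ (Q : Subgroup ↥G1) = ⊥ := by
  subst hG1
  exact sylow_TI hperf φ hK hφ P Q hPQ

end

section

variable {K : Type*} [Field K] [CharP K 3] (hperf : ∀ x : K, ∃ y : K, y ^ 3 = x) (φ : K ≃+* K)

/-- The Borel subgroup of the group. -/
noncomputable abbrev b1G2 : Subgroup ↥(twG2 hperf φ).fix := (chevG2.borelSubgroup K).subgroupOf (twG2 hperf φ).fix

/-- The coset of an element. -/
noncomputable abbrev cosG2 (g : ↥(twG2 hperf φ).fix) : ↥(twG2 hperf φ).fix ⧸ b1G2 hperf φ := g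

lemma cos_eq {g g' : ↥(twG2 hperf φ).fix} : cosG2 hperf φ g = cosG2 hperf φ g' ↔ (g : GL chevG2.Idx K)⁻¹ * g' ∈ chevG2.borelSubgroup K := by
  rw [cosG2, cosG2, QuotientGroup.eq, Subgroup.mem_subgroupOf]
  rfl

lemma smul_cos (a g : ↥(twG2 hperf φ).fix) : a • cosG2 hperf φ g = cosG2 hperf φ (a * g) := rfl

lemma mem_stab {a g : ↥(twG2 hperf φ).fix} : a ∈ MulAction.stabilizer ↥(twG2 hperf φ).fix (cosG2 hperf φ g) ↔
    (g : GL chevG2.Idx K)⁻¹ * a * g ∈ chevG2.borelSubgroup K := by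
  rw [MulAction.mem_stabilizer_iff, smul_cos, cos_eq]
  constructor
  · intro h
    have := Subgroup.inv_mem _ h
    have e : ((((a * g : ↥(twG2 hperf φ).fix) : GL chevG2.Idx K))⁻¹ * g)⁻¹ = (g : GL chevG2.Idx K)⁻¹ * a * g := by
      show (((a : GL chevG2.Idx K) * g)⁻¹ * g)⁻¹ = _
      group
    rwa [e] at this
  · intro h
    have := Subgroup.inv_mem _ h
    have e : ((g : GL chevG2.Idx K)⁻¹ * a * g)⁻¹ = (((a * g : ↥(twG2 hperf φ).fix) : GL chevG2.Idx K))⁻¹ * g := by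
      show _ = ((a : GL chevG2.Idx K) * g)⁻¹ * g
      group
    rwa [e] at this

variable (hφ : ∀ x, φ (φ (x ^ 3)) = x)

/-- The representative as an element of the group. -/
noncomputable def nFix : ↥(twG2 hperf φ).fix := ⟨n0G2, n0G2_fix hperf φ hφ⟩

/-- Cosets of the Borel subgroup. -/
lemma coset_cases (g : ↥(twG2 hperf φ).fix) : cosG2 hperf φ g = cosG2 hperf φ 1 ∨
    ∃ u : ↥(twG2 hperf φ).fix, (u : GL chevG2.Idx K) ∈ chevG2.posUnipotent K ∧ cosG2 hperf φ g = cosG2 hperf φ (u * nFix hperf φ hφ) := by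
  rcases fix_bruhat hperf φ hφ g.2 with hb | ⟨u, hu, b, hb, e⟩
  · left
    rw [cos_eq]
    have := Subgroup.inv_mem _ hb
    simpa using this
  · right
    refine ⟨⟨u, hu.2⟩, hu.1, ?_⟩
    rw [cos_eq]
    have := Subgroup.inv_mem _ hb.1
    have e2 : (g : GL chevG2.Idx K)⁻¹ * ((⟨u, hu.2⟩ * nFix hperf φ hφ : ↥(twG2 hperf φ).fix) : GL chevG2.Idx K) = b⁻¹ := by
      show (g : GL chevG2.Idx K)⁻¹ * (u * n0G2) = b⁻¹
      rw [e]
      group
    rwa [e2]

/-- The action is doubly transitive. -/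
lemma two_trans {x y : ↥(twG2 hperf φ).fix ⧸ b1G2 hperf φ} (hxy : x ≠ y) :
    ∃ a : ↥(twG2 hperf φ).fix, a • x = cosG2 hperf φ 1 ∧ a • y = cosG2 hperf φ (nFix hperf φ hφ) := by
  obtain ⟨g, rfl⟩ := QuotientGroup.mk_surjective x
  obtain ⟨g', rfl⟩ := QuotientGroup.mk_surjective y
  change cosG2 hperf φ g ≠ cosG2 hperf φ g' at hxy
  change ∃ a : ↥(twG2 hperf φ).fix, a • cosG2 hperf φ g = cosG2 hperf φ 1 ∧ a • cosG2 hperf φ g' = cosG2 hperf φ (nFix hperf φ hφ)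
  rcases coset_cases hperf φ hφ (g⁻¹ * g') with h | ⟨u, hu, h⟩
  · exfalso
    apply hxy
    rw [cos_eq] at h ⊢
    have := Subgroup.inv_mem _ h
    have e : (((g⁻¹ * g' : ↥(twG2 hperf φ).fix) : GL chevG2.Idx K)⁻¹ * ((1 : ↥(twG2 hperf φ).fix) : GL chevG2.Idx K))⁻¹ = (g : GL chevG2.Idx K)⁻¹ * g' := by
      show ((((g : GL chevG2.Idx K)⁻¹ * g'))⁻¹ * 1)⁻¹ = _
      group
    rwa [e] at this
  · refine ⟨u⁻¹ * g⁻¹, ?_, ?_⟩
    · rw [smul_cos]
      have : u⁻¹ * g⁻¹ * g = u⁻¹ := by group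
      rw [this, cos_eq]
      have h1 := Subgroup.inv_mem _ (Tbl.Good2.le_borel_U hu)
      have e : ((u⁻¹ : ↥(twG2 hperf φ).fix) : GL chevG2.Idx K)⁻¹ * ((1 : ↥(twG2 hperf φ).fix) : GL chevG2.Idx K) = u := by
        show ((u : GL chevG2.Idx K)⁻¹)⁻¹ * 1 = _
        group
      rw [e]
      exact Tbl.Good2.le_borel_U hu
    · have e1 := congrArg (fun z => u⁻¹ • z) h
      simp only [smul_cos] at e1
      have e2 : u⁻¹ * g⁻¹ * g' = u⁻¹ * (g⁻¹ * g') := by group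
      have e3 : u⁻¹ * (u * nFix hperf φ hφ) = nFix hperf φ hφ := by group
      rw [e3] at e1
      rw [smul_cos, e2]
      exact e1

/-- The conjugation invariance of the stabilisers. -/
lemma card_stab_smul {G X : Type*} [Group G] [MulAction G X] (a : G) (x y z : X) :
    Nat.card ↥(MulAction.stabilizer G (a • x) ⊓ MulAction.stabilizer G (a • y) ⊓ MulAction.stabilizer G (a • z)) =
      Nat.card ↥(MulAction.stabilizer G x ⊓ MulAction.stabilizer G y ⊓ MulAction.stabilizer G z) := by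
  have hinj : Function.Injective (MulAut.conj a).toMonoidHom := (MulAut.conj a).injective
  rw [MulAction.stabilizer_smul_eq_stabilizer_map_conj, MulAction.stabilizer_smul_eq_stabilizer_map_conj,
    MulAction.stabilizer_smul_eq_stabilizer_map_conj, ← Subgroup.map_inf _ _ _ hinj, ← Subgroup.map_inf _ _ _ hinj]
  exact Nat.card_congr (Subgroup.equivMapOfInjective _ _ hinj).symm.toEquiv

/-- An element stabilising the first two points lies in `H`. -/
lemma stab_two_H {h : ↥(twG2 hperf φ).fix} (h1 : h ∈ MulAction.stabilizer ↥(twG2 hperf φ).fix (cosG2 hperf φ 1))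
    (h2 : h ∈ MulAction.stabilizer ↥(twG2 hperf φ).fix (cosG2 hperf φ (nFix hperf φ hφ))) :
    (h : GL chevG2.Idx K) ∈ chevG2.diagonalSubgroup K := by
  rw [mem_stab] at h1 h2
  have h1' : (h : GL chevG2.Idx K) ∈ chevG2.borelSubgroup K := by simpa using h1
  have h2' : n0G2⁻¹ * (h : GL chevG2.Idx K) * n0G2 ∈ chevG2.borelSubgroup K := h2
  obtain ⟨u, hu, t, ht, e⟩ := good3G2.toGood2.mem_borel h2'
  have e1 : (h : GL chevG2.Idx K) = (n0G2 * u * n0G2⁻¹) * (n0G2 * t * n0G2⁻¹) := by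
    have : (h : GL chevG2.Idx K) = n0G2 * (n0G2⁻¹ * (h : GL chevG2.Idx K) * n0G2) * n0G2⁻¹ := by group
    rw [this, e]
    group
  rw [← good3G2.toGood2.borel_inf_negBorel]
  refine ⟨h1', ?_⟩
  rw [e1]
  exact Subgroup.mul_mem_sup (n0_conj_U hu) (good3G2.toGood2.N_conj_H (n0G2_mem_N (K := K)) ht)

/-- An element stabilising the three points commutes with the unipotent element. -/
lemma stab_three_comm {h u : ↥(twG2 hperf φ).fix} (hu : (u : GL chevG2.Idx K) ∈ chevG2.posUnipotent K)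
    (hH : (h : GL chevG2.Idx K) ∈ chevG2.diagonalSubgroup K)
    (h3 : h ∈ MulAction.stabilizer ↥(twG2 hperf φ).fix (cosG2 hperf φ (u * nFix hperf φ hφ))) :
    (h : GL chevG2.Idx K) * u * (h : GL chevG2.Idx K)⁻¹ = u := by
  rw [mem_stab] at h3
  have h3' : (n0G2⁻¹ * (u : GL chevG2.Idx K)⁻¹) * (h : GL chevG2.Idx K) * ((u : GL chevG2.Idx K) * n0G2) ∈ chevG2.borelSubgroup K := by
    have e : ((u * nFix hperf φ hφ : ↥(twG2 hperf φ).fix) : GL chevG2.Idx K)⁻¹ * (h : GL chevG2.Idx K) * ((u * nFix hperf φ hφ : ↥(twG2 hperf φ).fix) : GL chevG2.Idx K) =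
        (n0G2⁻¹ * (u : GL chevG2.Idx K)⁻¹) * (h : GL chevG2.Idx K) * ((u : GL chevG2.Idx K) * n0G2) := by
      show ((u : GL chevG2.Idx K) * n0G2)⁻¹ * (h : GL chevG2.Idx K) * ((u : GL chevG2.Idx K) * n0G2) = _
      group
    rwa [e] at h3
  have hn : n0G2⁻¹ * (h : GL chevG2.Idx K) * n0G2 ∈ chevG2.borelSubgroup K := by
    have := good3G2.toGood2.N_conj_H (Subgroup.inv_mem _ (n0G2_mem_N (K := K))) hH
    rw [inv_inv] at this
    exact Tbl.Good2.le_borel_H this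
  have hhu : (h : GL chevG2.Idx K) * u * (h : GL chevG2.Idx K)⁻¹ ∈ chevG2.posUnipotent K :=
    borel_normalizes (Tbl.Good2.le_borel_H hH) hu
  set w : GL chevG2.Idx K := (u : GL chevG2.Idx K)⁻¹ * ((h : GL chevG2.Idx K) * u * (h : GL chevG2.Idx K)⁻¹) with hw
  have hwU : w ∈ chevG2.posUnipotent K := Subgroup.mul_mem _ (Subgroup.inv_mem _ hu) hhu
  have hV := n0_inv_conj_U hwU
  have e1 : n0G2⁻¹ * w * n0G2 = ((n0G2⁻¹ * (u : GL chevG2.Idx K)⁻¹) * (h : GL chevG2.Idx K) * ((u : GL chevG2.Idx K) * n0G2)) * (n0G2⁻¹ * (h : GL chevG2.Idx K) * n0G2)⁻¹ := by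
    rw [hw]
    group
  have hB : n0G2⁻¹ * w * n0G2 ∈ chevG2.borelSubgroup K := by
    rw [e1]
    exact Subgroup.mul_mem _ h3' (Subgroup.inv_mem _ hn)
  have h5 : n0G2⁻¹ * w * n0G2 ∈ chevG2.borelSubgroup K ⊓ chevG2.negUnipotent K := ⟨hB, hV⟩
  rw [good3G2.toGood2.borel_inf_V, Subgroup.mem_bot] at h5
  have h6 : w = 1 := by
    have : w = n0G2 * (n0G2⁻¹ * w * n0G2) * n0G2⁻¹ := by group
    rw [this, h5]
    group
  rw [hw] at h6
  exact (inv_mul_eq_one.1 h6).symm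

/-- The stabiliser of three points has at most two elements. -/
theorem stab_three_le [Finite K] {u : ↥(twG2 hperf φ).fix} (hu : (u : GL chevG2.Idx K) ∈ chevG2.posUnipotent K) (hu1 : u ≠ 1) :
    Nat.card ↥(MulAction.stabilizer ↥(twG2 hperf φ).fix (cosG2 hperf φ 1) ⊓ MulAction.stabilizer ↥(twG2 hperf φ).fix (cosG2 hperf φ (nFix hperf φ hφ)) ⊓
      MulAction.stabilizer ↥(twG2 hperf φ).fix (cosG2 hperf φ (u * nFix hperf φ hφ))) ≤ 2 := by
  classical
  obtain ⟨t, a, b, et⟩ := (mem_U_fix_iff hperf φ hφ).1 ⟨hu, u.2⟩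
  have hH : ∀ h : ↥(MulAction.stabilizer ↥(twG2 hperf φ).fix (cosG2 hperf φ 1) ⊓ MulAction.stabilizer ↥(twG2 hperf φ).fix (cosG2 hperf φ (nFix hperf φ hφ)) ⊓
      MulAction.stabilizer ↥(twG2 hperf φ).fix (cosG2 hperf φ (u * nFix hperf φ hφ))), ((h.1 : ↥(twG2 hperf φ).fix) : GL chevG2.Idx K) ∈ chevG2.diagonalSubgroup K :=
    fun h => stab_two_H hperf φ hφ h.2.1.1 h.2.1.2
  have hsq : ∀ h : ↥(MulAction.stabilizer ↥(twG2 hperf φ).fix (cosG2 hperf φ 1) ⊓ MulAction.stabilizer ↥(twG2 hperf φ).fix (cosG2 hperf φ (nFix hperf φ hφ)) ⊓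
      MulAction.stabilizer ↥(twG2 hperf φ).fix (cosG2 hperf φ (u * nFix hperf φ hφ))), (chi7 ⟨h.1.1, hH h⟩ : K) ^ 2 = 1 := by
    intro h
    by_contra hs
    obtain ⟨h6, h10, h11⟩ := chi_ne hperf φ hφ (z := ⟨h.1.1, hH h⟩) h.1.2 hs
    have e1 := stab_three_comm hperf φ hφ hu (hH h) h.2.2
    have e := conj_reeU hperf φ hφ (z := ⟨h.1.1, hH h⟩) h.1.2 t a b
    rw [et] at e1
    have e' := e.symm.trans e1
    obtain ⟨a1, a2, a3⟩ := reeU_inj φ e'
    have key : ∀ {α x : K}, α ≠ 1 → α * x = x → x = 0 := by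
      intro α x hα hx
      have : (α - 1) * x = 0 := by rw [sub_mul, one_mul, hx, sub_self]
      rcases mul_eq_zero.1 this with h0 | h0
      · exact absurd (sub_eq_zero.1 h0) hα
      · exact h0
    apply hu1
    apply Subtype.ext
    rw [et]
    exact (reeU_eq_one_iff φ).2 ⟨key h6 a1, key h10 a2, key h11 a3⟩
  let f : ↥(MulAction.stabilizer ↥(twG2 hperf φ).fix (cosG2 hperf φ 1) ⊓ MulAction.stabilizer ↥(twG2 hperf φ).fix (cosG2 hperf φ (nFix hperf φ hφ)) ⊓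
      MulAction.stabilizer ↥(twG2 hperf φ).fix (cosG2 hperf φ (u * nFix hperf φ hφ))) → Bool := fun h => decide ((chi7 ⟨h.1.1, hH h⟩ : K) = 1)
  have hf : Function.Injective f := by
    intro h h' e
    have h1 : (chi7 ⟨h.1.1, hH h⟩ : K) = (chi7 ⟨h'.1.1, hH h'⟩ : K) := by
      have s1 := hsq h
      have s2 := hsq h'
      have e' : ((chi7 ⟨h.1.1, hH h⟩ : K) = 1) ↔ ((chi7 ⟨h'.1.1, hH h'⟩ : K) = 1) := by
        simpa [f] using e
      rw [pow_two] at s1 s2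
      rcases mul_self_eq_one_iff.1 s1 with c1 | c1
      · rw [c1, e'.1 c1]
      · by_cases c2 : (chi7 ⟨h'.1.1, hH h'⟩ : K) = 1
        · rw [e'.2 c2, c2]
        · rw [c1, (mul_self_eq_one_iff.1 s2).resolve_left c2]
    have := eq_of_chi7 hperf φ (z := ⟨h.1.1, hH h⟩) (z' := ⟨h'.1.1, hH h'⟩) h.1.2 h'.1.2 (Units.ext h1)
    exact Subtype.ext (Subtype.ext (congrArg (fun x : ↥(chevG2.diagonalSubgroup K) => x.1) this))
  have := Nat.card_le_card_of_injective f hf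
  simpa using this

include hφ in
/-- The action on the cosets of the Borel subgroup: stabilisers of three points. -/
theorem stab_three_all [Finite K] {x y z : ↥(twG2 hperf φ).fix ⧸ b1G2 hperf φ} (hxy : x ≠ y) (hxz : x ≠ z) (hyz : y ≠ z) :
    Nat.card ↥(MulAction.stabilizer ↥(twG2 hperf φ).fix x ⊓ MulAction.stabilizer ↥(twG2 hperf φ).fix y ⊓ MulAction.stabilizer ↥(twG2 hperf φ).fix z) ≤ 2 := by
  obtain ⟨a, h1, h2⟩ := two_trans hperf φ hφ hxy
  rw [← card_stab_smul a x y z, h1, h2]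
  obtain ⟨g, hg⟩ := QuotientGroup.mk_surjective (a • z)
  have hg' : a • z = cosG2 hperf φ g := hg.symm
  rw [hg']
  have hz1 : cosG2 hperf φ g ≠ cosG2 hperf φ 1 := by
    rw [← hg', ← h1]
    exact fun e => hxz (smul_left_cancel a e).symm
  have hz2 : cosG2 hperf φ g ≠ cosG2 hperf φ (nFix hperf φ hφ) := by
    rw [← hg', ← h2]
    exact fun e => hyz (smul_left_cancel a e).symm
  rcases coset_cases hperf φ hφ g with h | ⟨u, hu, h⟩
  · exact absurd h hz1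
  · rw [h]
    refine stab_three_le hperf φ hφ hu ?_
    rintro rfl
    apply hz2
    rw [h, one_mul]

include hφ in
/-- There are three points whose stabiliser has two elements. -/
theorem stab_three_ex [Finite K] (hsq : ∀ s : K, s ≠ 0 → ∃ r : K, r ≠ 0 ∧ (s = r ^ 2 ∨ s = -r ^ 2)) :
    ∃ x y z : ↥(twG2 hperf φ).fix ⧸ b1G2 hperf φ, x ≠ y ∧ x ≠ z ∧ y ≠ z ∧
      Nat.card ↥(MulAction.stabilizer ↥(twG2 hperf φ).fix x ⊓ MulAction.stabilizer ↥(twG2 hperf φ).fix y ⊓ MulAction.stabilizer ↥(twG2 hperf φ).fix z) = 2 := by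
  have hn := n0G2_fix hperf φ hφ
  have hnB : n0G2 ∉ chevG2.borelSubgroup K := by
    intro h
    have h1 : n0G2 ∈ chevG2.borelSubgroup K ⊓ chevG2.monomialSubgroup K := ⟨h, n0G2_mem_N⟩
    rw [good3G2.toGood2.B_inf_N] at h1
    exact m0G2_perm_ne (good3G2.toGood2.permN_of_H (n := m0G2) h1)
  set A : ↥(twG2 hperf φ).fix := ⟨reeU φ 0 1 0, reeU_fix hperf φ hφ 0 1 0⟩ with hA
  have hAU : (A : GL chevG2.Idx K) ∈ chevG2.posUnipotent K := reeU_mem_U φ 0 1 0
  have hA1 : A ≠ 1 := by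
    intro h
    have h1 : reeU φ 0 1 0 = 1 := congrArg Subtype.val h
    obtain ⟨_, h2, _⟩ := (reeU_eq_one_iff φ).1 h1
    exact one_ne_zero h2
  obtain ⟨z0, hz0⟩ := (chiFix_bij hperf φ hφ hsq).2 (-1)
  have hz : (z0.1 : GL chevG2.Idx K) ∈ (twG2 hperf φ).fix := z0.2.2
  have hzH : (z0.1 : GL chevG2.Idx K) ∈ chevG2.diagonalSubgroup K := z0.2.1
  let z : ↥(chevG2.diagonalSubgroup K) := ⟨z0.1, hzH⟩
  have hzs : (chi7 z : K) = -1 := by
    have := congrArg Units.val hz0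
    rw [chiFix_apply] at this
    simpa using this
  have h6 : (chi6 z : K) = -1 := by
    rw [chi6_fix hperf φ hz, hzs]
    have : (-1 : K) ^ 3 = -1 := by ring
    rw [this, map_neg, map_one]
  have h10 : (chi10 z : K) = 1 := by
    obtain ⟨-, -, h, -⟩ := chi_rel z
    rw [h, hzs, h6]
    ring
  have hcomm : (z0.1 : GL chevG2.Idx K) * A * (z0.1 : GL chevG2.Idx K)⁻¹ = A := by
    have := conj_reeU hperf φ hφ (z := z) hz 0 1 0
    rw [h10, mul_zero, mul_zero, mul_one] at this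
    exact this
  let ι : ↥(twG2 hperf φ).fix := ⟨z0.1, hz⟩
  have hι1 : ι ≠ 1 := by
    intro h
    have e : z = 1 := Subtype.ext (congrArg (fun x : ↥(twG2 hperf φ).fix => x.1) h)
    rw [e, map_one] at hzs
    have h3 := three_eq_zero (K := K)
    have h4 : (1 : K) = -1 := hzs
    have h5 : (1 : K) = 0 := by linear_combination (-1 : K) * h3 + 2 * h4
    exact one_ne_zero h5
  have hHB : n0G2⁻¹ * (z0.1 : GL chevG2.Idx K) * n0G2 ∈ chevG2.borelSubgroup K := by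
    have := good3G2.toGood2.N_conj_H (Subgroup.inv_mem _ (n0G2_mem_N (K := K))) hzH
    rw [inv_inv] at this
    exact Tbl.Good2.le_borel_H this
  refine ⟨cosG2 hperf φ 1, cosG2 hperf φ (nFix hperf φ hφ), cosG2 hperf φ (A * nFix hperf φ hφ), ?_, ?_, ?_, ?_⟩
  · intro h
    rw [cos_eq] at h
    apply hnB
    simpa [nFix] using h
  · intro h
    rw [cos_eq] at h
    apply hnB
    have e : ((1 : ↥(twG2 hperf φ).fix) : GL chevG2.Idx K)⁻¹ * ((A * nFix hperf φ hφ : ↥(twG2 hperf φ).fix) : GL chevG2.Idx K) = (A : GL chevG2.Idx K) * n0G2 := by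
      show (1 : GL chevG2.Idx K)⁻¹ * ((A : GL chevG2.Idx K) * n0G2) = _
      group
    rw [e] at h
    have e2 : n0G2 = (A : GL chevG2.Idx K)⁻¹ * ((A : GL chevG2.Idx K) * n0G2) := by group
    rw [e2]
    exact Subgroup.mul_mem _ (Subgroup.inv_mem _ (Tbl.Good2.le_borel_U hAU)) h
  · intro h
    rw [cos_eq] at h
    have e : ((nFix hperf φ hφ : ↥(twG2 hperf φ).fix) : GL chevG2.Idx K)⁻¹ * ((A * nFix hperf φ hφ : ↥(twG2 hperf φ).fix) : GL chevG2.Idx K) = n0G2⁻¹ * (A : GL chevG2.Idx K) * n0G2 := by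
      show n0G2⁻¹ * ((A : GL chevG2.Idx K) * n0G2) = _
      group
    rw [e] at h
    have h2 : n0G2⁻¹ * (A : GL chevG2.Idx K) * n0G2 ∈ chevG2.borelSubgroup K ⊓ chevG2.negUnipotent K := ⟨h, n0_inv_conj_U hAU⟩
    rw [good3G2.toGood2.borel_inf_V, Subgroup.mem_bot] at h2
    apply hA1
    apply Subtype.ext
    have e3 : (A : GL chevG2.Idx K) = n0G2 * (n0G2⁻¹ * (A : GL chevG2.Idx K) * n0G2) * n0G2⁻¹ := by group
    rw [e3, h2, mul_one, mul_inv_cancel]
    rfl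
  · refine le_antisymm (stab_three_le hperf φ hφ hAU hA1) ?_
    have hne : MulAction.stabilizer ↥(twG2 hperf φ).fix (cosG2 hperf φ 1) ⊓ MulAction.stabilizer ↥(twG2 hperf φ).fix (cosG2 hperf φ (nFix hperf φ hφ)) ⊓
        MulAction.stabilizer ↥(twG2 hperf φ).fix (cosG2 hperf φ (A * nFix hperf φ hφ)) ≠ ⊥ := by
      intro hbot
      have hmem : ι ∈ MulAction.stabilizer ↥(twG2 hperf φ).fix (cosG2 hperf φ 1) ⊓ MulAction.stabilizer ↥(twG2 hperf φ).fix (cosG2 hperf φ (nFix hperf φ hφ)) ⊓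
          MulAction.stabilizer ↥(twG2 hperf φ).fix (cosG2 hperf φ (A * nFix hperf φ hφ)) := by
        refine Subgroup.mem_inf.2 ⟨Subgroup.mem_inf.2 ⟨?_, ?_⟩, ?_⟩
        · rw [mem_stab]
          have e : ((1 : ↥(twG2 hperf φ).fix) : GL chevG2.Idx K)⁻¹ * (ι : GL chevG2.Idx K) * ((1 : ↥(twG2 hperf φ).fix) : GL chevG2.Idx K) = (z0.1 : GL chevG2.Idx K) := by
            show (1 : GL chevG2.Idx K)⁻¹ * (z0.1 : GL chevG2.Idx K) * 1 = _
            group
          rw [e]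
          exact Tbl.Good2.le_borel_H hzH
        · rw [mem_stab]
          exact hHB
        · rw [mem_stab]
          have e : ((A * nFix hperf φ hφ : ↥(twG2 hperf φ).fix) : GL chevG2.Idx K)⁻¹ * (ι : GL chevG2.Idx K) * ((A * nFix hperf φ hφ : ↥(twG2 hperf φ).fix) : GL chevG2.Idx K) =
              n0G2⁻¹ * (z0.1 : GL chevG2.Idx K) * n0G2 := by
            show ((A : GL chevG2.Idx K) * n0G2)⁻¹ * (z0.1 : GL chevG2.Idx K) * ((A : GL chevG2.Idx K) * n0G2) = _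
            have e1 : (z0.1 : GL chevG2.Idx K) * (A : GL chevG2.Idx K) = (A : GL chevG2.Idx K) * (z0.1 : GL chevG2.Idx K) := by
              calc (z0.1 : GL chevG2.Idx K) * (A : GL chevG2.Idx K) = ((z0.1 : GL chevG2.Idx K) * A * (z0.1 : GL chevG2.Idx K)⁻¹) * (z0.1 : GL chevG2.Idx K) := by group
                _ = _ := by rw [hcomm]
            calc ((A : GL chevG2.Idx K) * n0G2)⁻¹ * (z0.1 : GL chevG2.Idx K) * ((A : GL chevG2.Idx K) * n0G2)
                = n0G2⁻¹ * (A : GL chevG2.Idx K)⁻¹ * ((z0.1 : GL chevG2.Idx K) * (A : GL chevG2.Idx K)) * n0G2 := by group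
              _ = _ := by rw [e1]; group
          rw [e]
          exact hHB
      rw [hbot, Subgroup.mem_bot] at hmem
      exact hι1 hmem
    exact (Subgroup.one_lt_card_iff_ne_bot _).2 hne

end

end Cfsg.Agent.Lib.Chev
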